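import Groth.Agent.DTenLib.Symm
import Groth.Agent.DRingKP.Nilp
import Groth.Agent.KFlat.StalkTot
import Groth.Agent.PerfLocal.Perfect
import Groth.Prelude.Def_DTen4

/-!
Derived base change is computed by K-flat complexes.
-/

set_option autoImplicit false
set_option linter.style.haveILetI false
universe u

namespace Groth.Agent.DTenLib

open CategoryTheory Limits MonoidalCategory

attribute [local instance] HasDerivedCategory.standard

variable {R A : Type u} [CommRing R] [CommRing A] (φ : R →+* A)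

/-- counit of extension/restriction on complexes -/
noncomputable def counitCx (N : DRing.Cx A) : (DTen.extCx φ).obj ((DTen.resCx φ).obj N) ⟶ N where
  f i := (ModuleCat.extendRestrictScalarsAdj.{u, u, u} φ).counit.app (N.X i)
  comm' i j _ := ((ModuleCat.extendRestrictScalarsAdj.{u, u, u} φ).counit.naturality (N.d i j)).symm

lemma ext_counit {K : DRing.Cx R} {N : DRing.Cx A} (g : (DTen.extCx φ).obj K ⟶ N) :
    (DTen.extCx φ).map ((DTen.unitCx φ).app K ≫ (DTen.resCx φ).map g) ≫ counitCx φ N = g := by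
  refine HomologicalComplex.hom_ext _ _ fun i => ?_
  exact (((ModuleCat.extendRestrictScalarsAdj.{u, u, u} φ).homEquiv_counit (K.X i) (N.X i) _).symm.trans
    ((((ModuleCat.extendRestrictScalarsAdj.{u, u, u} φ).homEquiv (K.X i) (N.X i)).eq_symm_apply).2
      ((ModuleCat.extendRestrictScalarsAdj.{u, u, u} φ).homEquiv_unit (K.X i) (N.X i) (g.f i))).symm)

lemma unit_res_counit {K : DRing.Cx R} {N : DRing.Cx A} (f : K ⟶ (DTen.resCx φ).obj N) :
    (DTen.unitCx φ).app K ≫ (DTen.resCx φ).map ((DTen.extCx φ).map f ≫ counitCx φ N) = f := by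
  refine HomologicalComplex.hom_ext _ _ fun i => ?_
  exact (((ModuleCat.extendRestrictScalarsAdj.{u, u, u} φ).homEquiv_unit (K.X i) (N.X i) _).symm.trans
    ((((ModuleCat.extendRestrictScalarsAdj.{u, u, u} φ).homEquiv (K.X i) (N.X i)).eq_symm_apply).1
      ((ModuleCat.extendRestrictScalarsAdj.{u, u, u} φ).homEquiv_counit (K.X i) (N.X i) (f.f i)).symm))

lemma isKProjective_ext (P : DRing.Cx R) [P.IsKProjective] : ((DTen.extCx φ).obj P).IsKProjective where
  nonempty_homotopy_zero {L} f hL := by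
    have hL' : ((DTen.resCx φ).obj L).Acyclic := fun i => by
      rw [HomologicalComplex.exactAt_iff]
      exact (hL i).map (ModuleCat.restrictScalars φ)
    have h : Homotopy ((DTen.unitCx φ).app P ≫ (DTen.resCx φ).map f) 0 :=
      CochainComplex.IsKProjective.homotopyZero (K := P) ((DTen.unitCx φ).app P ≫ (DTen.resCx φ).map f) hL'
    exact ⟨(Homotopy.ofEq (ext_counit φ f).symm).trans
      ((((ModuleCat.extendScalars.{u, u, u} φ).mapHomotopy h).compRight (counitCx φ L)).trans
        (Homotopy.ofEq (by simp)))⟩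

lemma quasiIso_ext {P Q : DRing.Cx R} (α : P ⟶ Q) [QuasiIso α] (hP : DRing.IsKFlat R P)
    (hQ : DRing.IsKFlat R Q) : QuasiIso ((DTen.extCx φ).map α) := by
  have hC := KFlat.rflat_mappingCone α ((DRingKP.rflat_iff P).2 hP) ((DRingKP.rflat_iff Q).2 hQ)
  have hC' := KFlat.mappingCone_acyclic α
  have h : (((DTen.resCx φ).obj (𝟙_ (DRing.Cx A))) ⊗ CochainComplex.mappingCone α).Acyclic :=
    KFlat.acyclic_tens_of_acyclic_rflat (DRingKP.tBraid R)
      (fun F => let ⟨K, q, h1, _, h3, _⟩ := DRingKP.exists_kFlat_resolution F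
        ⟨K, q, (DRingKP.rflat_iff K).2 h1, h3⟩) hC hC' _
  have h2 := KFlat.acyclic_of_iso (KFlat.projTotIso φ (𝟙_ (DRing.Cx A)) (CochainComplex.mappingCone α)) h
  have h3 : ((DTen.extCx φ).obj (CochainComplex.mappingCone α)).Acyclic := by
    refine KFlat.acyclic_of_iso (λ_ _) fun i => ?_
    rw [HomologicalComplex.exactAt_iff]
    exact (ShortComplex.exact_map_iff_of_faithful _ (ModuleCat.restrictScalars φ)).1 (h2 i)
  have h4 : (CochainComplex.mappingCone ((DTen.extCx φ).map α)).Acyclic :=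
    KFlat.acyclic_of_iso
      (CochainComplex.mappingCone.mapHomologicalComplexIso α (ModuleCat.extendScalars.{u, u, u} φ)) h3
  exact KFlat.quasiIso_of_acyclic_mappingCone _ h4

lemma homotopic_of_Q_map {P N : DRing.Cx R} [P.IsKProjective] {f g : P ⟶ N}
    (h : DerivedCategory.Q.map f = DerivedCategory.Q.map g) : Nonempty (Homotopy f g) := by
  refine ⟨HomotopyCategory.homotopyOfEq _ _ ((CochainComplex.IsKProjective.Qh_map_bijective P _).1 ?_)⟩
  rw [← cancel_mono ((DerivedCategory.quotientCompQhIso _).hom.app N),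
    DerivedCategory.quotientCompQhIso_hom_naturality, DerivedCategory.quotientCompQhIso_hom_naturality, h]

/-- `QK ⟶ res Q(K ⊗_R A)` -/
noncomputable def γ₀ (P : DRing.Cx R) :
    DerivedCategory.Q.obj P ⟶ (DRing.restrictD φ).obj (DerivedCategory.Q.obj ((DTen.extCx φ).obj P)) :=
  DerivedCategory.Q.map ((DTen.unitCx φ).app P) ≫ (DTen.resFactors φ).inv.app ((DTen.extCx φ).obj P)

lemma bijective_γ₀ (P : DRing.Cx R) [P.IsKProjective] (N : DRing.Cx A) :
    Function.Bijective (fun g : DerivedCategory.Q.obj ((DTen.extCx φ).obj P) ⟶ DerivedCategory.Q.obj N =>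
      γ₀ φ P ≫ (DRing.restrictD φ).map g) := by
  have := isKProjective_ext φ P
  have key : ∀ g₀ : (DTen.extCx φ).obj P ⟶ N,
      γ₀ φ P ≫ (DRing.restrictD φ).map (DerivedCategory.Q.map g₀) =
        DerivedCategory.Q.map ((DTen.unitCx φ).app P ≫ (DTen.resCx φ).map g₀) ≫
          (DTen.resFactors φ).inv.app N := fun g₀ => by
    have h := (DTen.resFactors φ).inv.naturality g₀
    dsimp [γ₀] at h ⊢
    rw [Category.assoc, ← h, Functor.map_comp, Category.assoc]
  constructor
  · intro g g' e
    obtain ⟨g₀, rfl⟩ := PerfLocal.exists_lift (R := A) g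
    obtain ⟨g₁, rfl⟩ := PerfLocal.exists_lift (R := A) g'
    simp only [key, cancel_mono] at e
    obtain ⟨H⟩ := homotopic_of_Q_map (R := R) (P := P) e
    have H' : Homotopy g₀ g₁ := (Homotopy.ofEq (ext_counit φ g₀).symm).trans
      ((((ModuleCat.extendScalars.{u, u, u} φ).mapHomotopy H).compRight (counitCx φ N)).trans
        (Homotopy.ofEq (ext_counit φ g₁)))
    have h2 := congrArg (DerivedCategory.Qh.map) (HomotopyCategory.eq_of_homotopy _ _ H')
    rw [← cancel_epi ((DerivedCategory.quotientCompQhIso _).hom.app ((DTen.extCx φ).obj P)),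
      ← DerivedCategory.quotientCompQhIso_hom_naturality,
      ← DerivedCategory.quotientCompQhIso_hom_naturality, h2]
  · intro h
    obtain ⟨f, hf⟩ := PerfLocal.exists_lift (R := R) (h ≫ (DTen.resFactors φ).hom.app N)
    refine ⟨DerivedCategory.Q.map ((DTen.extCx φ).map f ≫ counitCx φ N), ?_⟩
    change γ₀ φ P ≫ _ = h
    rw [key, unit_res_counit, hf]
    simp

lemma bijective_baseγ [DTen.HasLBase φ] (P : DRing.Cx R) [P.IsKProjective] (N : DRing.Cx A) :
    Function.Bijective (fun g : DerivedCategory.Q.obj ((DTen.extCx φ).obj P) ⟶ DerivedCategory.Q.obj N =>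
      (DTen.baseγ φ).app P ≫ (DRing.restrictD φ).map g) :=
  bijective_γ₀ φ P N

lemma isIso_baseCmp_kProj [DTen.HasLBase φ] (P : DRing.Cx R) [P.IsKProjective] :
    IsIso ((DTen.baseCmp φ).app P) := by
  refine isIso_of_coyoneda_map_bijective _ fun Y => ?_
  let N := DerivedCategory.Q.objPreimage Y
  let e : DerivedCategory.Q.obj N ≅ Y := DerivedCategory.Q.objObjPreimageIso Y
  let E : (DerivedCategory.Q.obj ((DTen.extCx φ).obj P) ⟶ DerivedCategory.Q.obj N) ≃
      (DerivedCategory.Q.obj ((DTen.extCx φ).obj P) ⟶ Y) := Iso.homToEquiv e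
  let E' : ((DTen.LBase φ).obj (DerivedCategory.Q.obj P) ⟶ Y) ≃
      (DerivedCategory.Q.obj P ⟶ (DRing.restrictD φ).obj (DerivedCategory.Q.obj N)) :=
    ((DTen.baseAdj φ).homEquiv _ _).trans (Iso.homToEquiv ((DRing.restrictD φ).mapIso e).symm)
  have hc : (fun g : DerivedCategory.Q.obj ((DTen.extCx φ).obj P) ⟶ DerivedCategory.Q.obj N =>
      (DTen.baseγ φ).app P ≫ (DRing.restrictD φ).map g) =
      E' ∘ (fun k => (DTen.baseCmp φ).app P ≫ k) ∘ E := by
    funext g
    simp only [Function.comp_apply, E, E', Equiv.trans_apply, Iso.homToEquiv_apply, Adjunction.homEquiv_unit,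
      Functor.map_comp, Category.assoc, Iso.symm_hom, Functor.mapIso_inv]
    rw [← DTen.baseCmp_fac, Category.assoc, ← (DRing.restrictD φ).map_comp e.hom, Iso.hom_inv_id,
      CategoryTheory.Functor.map_id, Category.comp_id]
  have h := bijective_baseγ φ P N
  rw [hc] at h
  exact (Equiv.comp_bijective _ E').1 h |> (Equiv.bijective_comp E _).1

theorem isIso_baseCmp [DTen.HasLBase φ] {K : DRing.Cx R} (hK : DRing.IsKFlat R K) :
    IsIso ((DTen.baseCmp φ).app K) := by
  obtain ⟨P, c, hP, hPf, -, hc⟩ := DRingKP.exists_kProj_kFlat_resolution K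
  have := isIso_baseCmp_kProj φ P
  have := quasiIso_ext φ c hPf hK
  have h := (DTen.baseCmp φ).naturality c
  dsimp at h
  have : IsIso ((DTen.LBase φ).map (DerivedCategory.Q.map c) ≫ (DTen.baseCmp φ).app K) := by
    rw [h]
    infer_instance
  exact IsIso.of_isIso_comp_left ((DTen.LBase φ).map (DerivedCategory.Q.map c)) _

end Groth.Agent.DTenLib
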