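import Groth.Agent.DTenLib.DualCx
import Mathlib.LinearAlgebra.Dual.Lemmas
import Mathlib.LinearAlgebra.Contraction

/-!
Bounded complexes of finite projective modules are dualizable.
-/

set_option autoImplicit false
set_option linter.style.haveILetI false
universe u

namespace Groth.Agent.DTenLib

open CategoryTheory Limits MonoidalCategory HomologicalComplex TensorProduct

variable {A : Type u} [CommRing A]

lemma exists_dual_sum (M : Type u) [AddCommGroup M] [Module A M] [Module.Finite A M] [Module.Projective A M] :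
    ∃ (k : ℕ) (m : Fin k → M) (φ : Fin k → Module.Dual A M), ∀ x, ∑ i, φ i x • m i = x := by
  obtain ⟨k, p, hp⟩ := Module.Finite.exists_fin' A M
  obtain ⟨s, hs⟩ := Module.projective_lifting_property p LinearMap.id hp
  refine ⟨k, fun i => p (Pi.single i 1), fun i => (LinearMap.proj i).comp s, fun x => ?_⟩
  conv_rhs => rw [← LinearMap.id_apply (R := A) x, ← hs, LinearMap.comp_apply, pi_eq_sum_univ (s x), map_sum]
  refine Finset.sum_congr rfl fun i _ => ?_
  rw [map_smul]
  congr 1
  refine congrArg p (funext fun j => ?_)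
  simp [Pi.single_apply, eq_comm]

/-- finite projective -/
abbrev FinProj (M : ModuleCat.{u} A) : Prop := Module.Finite A M ∧ Module.Projective A M

/-- evaluation -/
noncomputable def modEv (M : ModuleCat.{u} A) :
    ModuleCat.of A (Module.Dual A M) ⊗ M ⟶ 𝟙_ (ModuleCat.{u} A) :=
  ModuleCat.ofHom (contractLeft A M)

/-- dual bases -/
noncomputable def dk {M : ModuleCat.{u} A} (h : FinProj M) : ℕ :=
  haveI := h.1; haveI := h.2; (exists_dual_sum (A := A) M).choose

/-- dual bases -/
noncomputable def dm {M : ModuleCat.{u} A} (h : FinProj M) : Fin (dk h) → M :=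
  haveI := h.1; haveI := h.2; (exists_dual_sum (A := A) M).choose_spec.choose

/-- dual bases -/
noncomputable def dφ {M : ModuleCat.{u} A} (h : FinProj M) : Fin (dk h) → Module.Dual A M :=
  haveI := h.1; haveI := h.2; (exists_dual_sum (A := A) M).choose_spec.choose_spec.choose

lemma dsum {M : ModuleCat.{u} A} (h : FinProj M) (x : M) : ∑ i, dφ h i x • dm h i = x :=
  haveI := h.1; haveI := h.2; (exists_dual_sum (A := A) M).choose_spec.choose_spec.choose_spec x

/-- coevaluation -/
noncomputable def modCo {M : ModuleCat.{u} A} (h : FinProj M) :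
    𝟙_ (ModuleCat.{u} A) ⟶ M ⊗ ModuleCat.of A (Module.Dual A M) :=
  ModuleCat.ofHom (LinearMap.toSpanSingleton A (M ⊗[A] Module.Dual A M) (∑ i, dm h i ⊗ₜ[A] dφ h i))

lemma zig_aux₁ {M : Type u} [AddCommGroup M] [Module A M] {k : ℕ} (m : Fin k → M) (φ : Fin k → Module.Dual A M)
    (h : ∀ x, ∑ i, φ i x • m i = x) (r : A) (x : M) :
    LinearMap.lTensor M (contractLeft A M) ((TensorProduct.assoc A M (Module.Dual A M) M)
      ((r • ∑ i, m i ⊗ₜ[A] φ i) ⊗ₜ[A] x)) = (r • x) ⊗ₜ[A] (1 : A) := by
  rw [Finset.smul_sum, TensorProduct.sum_tmul]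
  conv_rhs => rw [← h x, Finset.smul_sum, TensorProduct.sum_tmul]
  rw [map_sum, map_sum]
  refine Finset.sum_congr rfl fun i _ => ?_
  rw [TensorProduct.smul_tmul', TensorProduct.assoc_tmul, LinearMap.lTensor_tmul, contractLeft_apply,
    smul_smul, TensorProduct.smul_tmul, TensorProduct.smul_tmul, smul_eq_mul, smul_eq_mul, mul_one]

lemma zig_aux₂ {M : Type u} [AddCommGroup M] [Module A M] {k : ℕ} (m : Fin k → M) (φ : Fin k → Module.Dual A M)
    (h : ∀ x, ∑ i, φ i x • m i = x) (f : Module.Dual A M) (r : A) :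
    LinearMap.rTensor (Module.Dual A M) (contractLeft A M)
      ((TensorProduct.assoc A (Module.Dual A M) M (Module.Dual A M)).symm
        (f ⊗ₜ[A] (r • ∑ i, m i ⊗ₜ[A] φ i))) = (1 : A) ⊗ₜ[A] (r • f) := by
  have e : f = ∑ i, f (m i) • φ i := LinearMap.ext fun x => by
    conv_lhs => rw [← h x, map_sum]
    simp [mul_comm]
  rw [TensorProduct.tmul_smul, TensorProduct.tmul_sum, map_smul, map_smul, map_sum, map_sum,
    TensorProduct.tmul_smul]
  conv_rhs => rw [e, TensorProduct.tmul_sum]
  refine congrArg (r • ·) (Finset.sum_congr rfl fun i _ => ?_)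
  rw [TensorProduct.assoc_symm_tmul, LinearMap.rTensor_tmul, contractLeft_apply, TensorProduct.tmul_smul,
    TensorProduct.smul_tmul', smul_eq_mul, mul_one]

lemma modZig₁ {M : ModuleCat.{u} A} (h : FinProj M) :
    (modCo h ▷ M) ≫ (α_ _ _ _).hom ≫ (M ◁ modEv M) = (λ_ M).hom ≫ (ρ_ M).inv := by
  refine ModuleCat.MonoidalCategory.tensor_ext fun (r : A) x => ?_
  exact zig_aux₁ (dm h) (dφ h) (dsum h) r x

lemma modZig₂ {M : ModuleCat.{u} A} (h : FinProj M) :
    (ModuleCat.of A (Module.Dual A M) ◁ modCo h) ≫ (α_ _ _ _).inv ≫ (modEv M ▷ ModuleCat.of A (Module.Dual A M)) =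
      (ρ_ (ModuleCat.of A (Module.Dual A M))).hom ≫ (λ_ (ModuleCat.of A (Module.Dual A M))).inv := by
  refine ModuleCat.MonoidalCategory.tensor_ext fun (f : Module.Dual A M) (r : A) => ?_
  exact zig_aux₂ (dm h) (dφ h) (dsum h) f r

/-- transpose -/
noncomputable def modT {M N : ModuleCat.{u} A} (f : M ⟶ N) :
    ModuleCat.of A (Module.Dual A N) ⟶ ModuleCat.of A (Module.Dual A M) :=
  ModuleCat.ofHom f.hom.dualMap

lemma modEv_nat {M N : ModuleCat.{u} A} (f : M ⟶ N) :
    (modT f ▷ M) ≫ modEv M = (ModuleCat.of A (Module.Dual A N) ◁ f) ≫ modEv N :=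
  ModuleCat.MonoidalCategory.tensor_ext fun _ _ => rfl

lemma modCo_nat {M N : ModuleCat.{u} A} (f : M ⟶ N) (hM : FinProj M) (hN : FinProj N) :
    modCo hM ≫ (f ▷ ModuleCat.of A (Module.Dual A M)) = modCo hN ≫ (N ◁ modT f) := by
  refine ModuleCat.hom_ext (LinearMap.ext_ring ?_)
  change LinearMap.rTensor (Module.Dual A M) f.hom ((1 : A) • ∑ i, dm hM i ⊗ₜ[A] dφ hM i) =
    LinearMap.lTensor N f.hom.dualMap ((1 : A) • ∑ j, dm hN j ⊗ₜ[A] dφ hN j)
  simp only [one_smul, map_sum, LinearMap.rTensor_tmul, LinearMap.lTensor_tmul]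
  have e : ∀ j, f.hom.dualMap (dφ hN j) = ∑ i, dφ hN j (f.hom (dm hM i)) • dφ hM i := fun j =>
    LinearMap.ext fun x => by
      conv_lhs => rw [LinearMap.dualMap_apply, ← dsum hM x, map_sum, map_sum]
      simp [mul_comm]
  simp only [e, TensorProduct.tmul_sum, TensorProduct.tmul_smul, TensorProduct.smul_tmul']
  rw [Finset.sum_comm]
  refine Finset.sum_congr rfl fun i _ => ?_
  rw [← TensorProduct.sum_tmul, dsum hN]

lemma units_smul_whiskerRight {M N : ModuleCat.{u} A} (s : ℤˣ) (f : M ⟶ N) (X : ModuleCat.{u} A) :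
    (s • f) ▷ X = s • (f ▷ X) := by
  rcases Int.units_eq_one_or s with rfl | rfl <;> simp [MonoidalPreadditive.zero_whiskerRight]
  exact ((tensoringRight (ModuleCat.{u} A)).obj X).map_neg

lemma units_whiskerLeft_smul {M N : ModuleCat.{u} A} (s : ℤˣ) (X : ModuleCat.{u} A) (f : M ⟶ N) :
    X ◁ (s • f) = s • (X ◁ f) := by
  rcases Int.units_eq_one_or s with rfl | rfl <;> simp
  exact ((tensoringLeft (ModuleCat.{u} A)).obj X).map_neg

lemma hev_aux {M N : ModuleCat.{u} A} (f : M ⟶ N) (s t : ℤˣ) (hst : s = -t) :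
    ((s • modT f) ▷ M) ≫ modEv M + t • ((ModuleCat.of A (Module.Dual A N) ◁ f) ≫ modEv N) = 0 := by
  rw [units_smul_whiskerRight, Linear.units_smul_comp, modEv_nat, hst, Units.neg_smul]
  exact neg_add_cancel _

lemma hco_aux {M N : ModuleCat.{u} A} (f : M ⟶ N) (hM : FinProj M) (hN : FinProj N) (s t : ℤˣ)
    (hst : t * s = -1) :
    modCo hM ≫ (f ▷ ModuleCat.of A (Module.Dual A M)) + t • (modCo hN ≫ (N ◁ (s • modT f))) = 0 := by
  rw [units_whiskerLeft_smul, Linear.comp_units_smul, smul_smul, hst, ← modCo_nat f hM hN, Units.neg_smul,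
    one_smul]
  exact add_neg_cancel _

variable (E : DRing.Cx A) (a b : ℤ) (hE : DRing.VanishesOutside E a b)
  (hf : DRing.TermwiseFiniteProjective E)

/-- the dual complex -/
noncomputable def dualCx : DRing.Cx A where
  X n := ModuleCat.of A (Module.Dual A (E.X (-n)))
  d n m := (n + 1).negOnePow • modT (E.d (-m) (-n))
  shape n m h := by
    rw [E.shape (-m) (-n) (fun h' => h (by simp only [ComplexShape.up_Rel] at h' ⊢; lia))]
    refine (congrArg (_ • ·) (?_ : modT (0 : E.X (-m) ⟶ E.X (-n)) = 0)).trans (smul_zero _)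
    exact ModuleCat.hom_ext (LinearMap.ext fun g => LinearMap.ext fun x => by simp [modT])
  d_comp_d' n m k _ _ := by
    rw [Linear.units_smul_comp, Linear.comp_units_smul]
    refine (congrArg (fun w => _ • (_ • w)) (?_ : modT (E.d (-m) (-n)) ≫ modT (E.d (-k) (-m)) = 0)).trans ?_
    · refine ModuleCat.hom_ext (LinearMap.ext fun g => LinearMap.ext fun x => ?_)
      exact (congrArg g (LinearMap.congr_fun (congrArg ModuleCat.Hom.hom (E.d_comp_d (-k) (-m) (-n))) x)).trans
        (map_zero g)
    · simp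

include hf in
lemma termwiseFiniteProjective_dualCx : DRing.TermwiseFiniteProjective (dualCx E) := fun n =>
  haveI := (hf (-n)).1
  haveI := (hf (-n)).2
  ⟨inferInstanceAs (Module.Finite A (Module.Dual A (E.X (-n)))),
    inferInstanceAs (Module.Projective A (Module.Dual A (E.X (-n))))⟩

include hE in
lemma vanishesOutside_dualCx : DRing.VanishesOutside (dualCx E) (-b) (-a) := fun i hi => by
  have h : IsZero (E.X (-i)) := hE (-i) (by lia)
  haveI : Subsingleton (E.X (-i)) := ModuleCat.subsingleton_of_isZero h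
  haveI : Subsingleton (Module.Dual A (E.X (-i))) :=
    ⟨fun f g => LinearMap.ext fun x => by rw [Subsingleton.elim x 0, map_zero, map_zero]⟩
  exact ModuleCat.isZero_of_subsingleton (ModuleCat.of A (Module.Dual A (E.X (-i))))

/-- duality data -/
noncomputable def preDual : PreDual E (dualCx E) where
  s := Finset.Icc a b
  hs p hp := hE p (by simp only [Finset.mem_Icc, not_and_or, not_le] at hp; exact hp)
  ev p q h := ((dualCx E).X q ◁ eqToHom (congrArg E.X (show p = -q by lia))) ≫ modEv (E.X (-q))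
  co p q h := modCo (hf (-q)) ≫ (eqToHom (congrArg E.X (show -q = p by lia)) ▷ (dualCx E).X q)
  zig₁ p q h := by
    obtain rfl : p = -q := by lia
    simp only [eqToHom_refl, MonoidalCategory.whiskerLeft_id, id_whiskerRight, Category.id_comp]
    erw [Category.comp_id]
    exact modZig₁ (hf (-q))
  zig₂ p q h := by
    obtain rfl : p = -q := by lia
    simp only [eqToHom_refl, MonoidalCategory.whiskerLeft_id, id_whiskerRight, Category.id_comp]
    erw [Category.comp_id]
    exact modZig₂ (hf (-q))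
  hev p p' q q' hp hq h h' := by
    obtain rfl : p = -q' := by lia
    obtain rfl : p' = -q := by lia
    simp only [eqToHom_refl, MonoidalCategory.whiskerLeft_id, Category.id_comp]
    exact hev_aux (E.d (-q') (-q)) _ _ (Int.negOnePow_succ q)
  hco p p' q q' hp hq h h' := by
    obtain rfl : p = -q' := by lia
    obtain rfl : p' = -q := by lia
    simp only [eqToHom_refl, id_whiskerRight]
    erw [Category.comp_id, Category.comp_id]
    exact hco_aux (E.d (-q') (-q)) (hf (-q')) (hf (-q)) _ _
      (by rw [← Int.negOnePow_add, show -q + (q + 1) = 1 by lia, Int.negOnePow_one])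

end Groth.Agent.DTenLib
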