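import Groth.Agent.DTenLib.Base
import Groth.Agent.DRingKP.Derive

/-!
Derived base change is left adjoint to restriction.
-/

set_option autoImplicit false
set_option linter.style.haveILetI false
universe u

namespace Groth.Agent.DTenLib

open CategoryTheory Limits MonoidalCategory

attribute [local instance] HasDerivedCategory.standard

variable {R A : Type u} [CommRing R] [CommRing A] (φ : R →+* A)

theorem hasLBase : DTen.HasLBase φ := by
  constructor
  have h : ∀ X : Dual.D R, ∃ (Z : Dual.D A) (u : X ⟶ (DRing.restrictD φ).obj Z), ∀ Y,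
      Function.Bijective fun g : Z ⟶ Y => u ≫ (DRing.restrictD φ).map g := fun X => by
    obtain ⟨P, c, hP, -, -, hc⟩ := DRingKP.exists_kProj_kFlat_resolution (DerivedCategory.Q.objPreimage X)
    let e : DerivedCategory.Q.obj P ≅ X :=
      asIso (DerivedCategory.Q.map c) ≪≫ DerivedCategory.Q.objObjPreimageIso X
    refine ⟨DerivedCategory.Q.obj ((DTen.extCx φ).obj P), e.inv ≫ γ₀ φ P, fun Y => ?_⟩
    let eY := DerivedCategory.Q.objObjPreimageIso Y
    have he : (fun g : DerivedCategory.Q.obj ((DTen.extCx φ).obj P) ⟶ Y =>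
        (e.inv ≫ γ₀ φ P) ≫ (DRing.restrictD φ).map g) =
        ((Iso.homFromEquiv e).trans (Iso.homToEquiv ((DRing.restrictD φ).mapIso eY))) ∘
          (fun g => γ₀ φ P ≫ (DRing.restrictD φ).map g) ∘ (Iso.homToEquiv eY.symm) := by
      funext g
      simp only [Function.comp_apply, Equiv.trans_apply, Iso.homFromEquiv_apply, Iso.homToEquiv_apply,
        Functor.mapIso_hom, Iso.symm_hom, Category.assoc, ← Functor.map_comp, Iso.inv_hom_id, Category.comp_id]
    rw [he]
    exact (Equiv.bijective _).comp ((bijective_γ₀ φ P _).comp (Equiv.bijective _))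
  choose Z u hu using h
  exact ⟨_, ⟨Adjunction.adjunctionOfEquivLeft (F_obj := Z) (G := DRing.restrictD φ)
    (fun X Y => Equiv.ofBijective _ (hu X Y))
    (fun X Y Y' g k => by simp)⟩⟩

variable [DTen.HasLBase φ] [DRing.HasLBaseChange φ]

omit [DTen.HasLBase φ] in
lemma isIso_cmp_kFlat {K : DRing.Cx R} (hK : DRing.IsKFlat R K) : IsIso (DRingKP.cmp φ K) := by
  obtain ⟨P, c, hP, hPf, -, hc⟩ := DRingKP.exists_kProj_kFlat_resolution K
  have := DRingKP.isIso_cmp φ P
  have hq := quasiIso_ext φ c hPf hK
  have : IsIso ((DRing.LBaseChange φ).map (DerivedCategory.Q.map c) ≫ DRingKP.cmp φ K) := by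
    rw [DRingKP.cmp_naturality]
    have : IsIso (DerivedCategory.Q.map ((DRingKP.bc φ).map c)) :=
      Localization.inverts DerivedCategory.Q (DTen.qis A) _ hq
    infer_instance
  exact IsIso.of_isIso_comp_left ((DRing.LBaseChange φ).map (DerivedCategory.Q.map c)) _

/-- both derived base changes agree -/
noncomputable def lBaseIso : DTen.LBase φ ≅ DRing.LBaseChange φ :=
  haveI : ∀ K : DRing.Cx R, IsIso ((DTen.baseCmp φ).app (res.obj K)) := fun K => isIso_baseCmp φ (isKFlat_res K)
  haveI : ∀ K : DRing.Cx R, IsIso (DRingKP.cmp φ (res.obj K)) := fun K => isIso_cmp_kFlat φ (isKFlat_res K)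
  haveI : ∀ K : DRing.Cx R, IsIso (DerivedCategory.Q.map (resψ.app K)) := isIso_Q_resψ
  Localization.liftNatIso DerivedCategory.Q (DTen.qis R)
    (DerivedCategory.Q ⋙ DTen.LBase φ) (DerivedCategory.Q ⋙ DRing.LBaseChange φ) _ _
    (NatIso.ofComponents
      (fun K => ((DTen.LBase φ).mapIso (asIso (DerivedCategory.Q.map (resψ.app K)))).symm ≪≫
        asIso ((DTen.baseCmp φ).app (res.obj K)) ≪≫ (asIso (DRingKP.cmp φ (res.obj K))).symm ≪≫
        (DRing.LBaseChange φ).mapIso (asIso (DerivedCategory.Q.map (resψ.app K))))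
      (fun {K K'} f => by
        have e1 := (DTen.baseCmp φ).naturality (res.map f)
        have e2 := DRingKP.cmp_naturality φ (res.map f)
        dsimp at e1 e2 ⊢
        simp only [Category.assoc, Functor.map_inv]
        rw [← cancel_epi ((DTen.LBase φ).map (DerivedCategory.Q.map (resψ.app K)))]
        have n1 : (DTen.LBase φ).map (DerivedCategory.Q.map (resψ.app K)) ≫
            (DTen.LBase φ).map (DerivedCategory.Q.map f) =
            (DTen.LBase φ).map (DerivedCategory.Q.map (res.map f)) ≫
              (DTen.LBase φ).map (DerivedCategory.Q.map (resψ.app K')) := by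
          simp only [← Functor.map_comp]
          exact congrArg (fun x => (DTen.LBase φ).map (DerivedCategory.Q.map x)) (resψ.naturality f).symm
        have n2 : (DRing.LBaseChange φ).map (DerivedCategory.Q.map (resψ.app K)) ≫
            (DRing.LBaseChange φ).map (DerivedCategory.Q.map f) =
            (DRing.LBaseChange φ).map (DerivedCategory.Q.map (res.map f)) ≫
              (DRing.LBaseChange φ).map (DerivedCategory.Q.map (resψ.app K')) := by
          simp only [← Functor.map_comp]
          exact congrArg (fun x => (DRing.LBaseChange φ).map (DerivedCategory.Q.map x)) (resψ.naturality f).symm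
        rw [reassoc_of% n1]
        simp only [IsIso.hom_inv_id_assoc]
        rw [reassoc_of% e1, n2]
        congr 1
        rw [IsIso.eq_inv_comp]
        refine (Category.assoc _ _ _).symm.trans ((congrArg (· ≫ _) e2.symm).trans ?_)
        simp))

theorem nonempty_adjunction : Nonempty (DRing.LBaseChange φ ⊣ DRing.restrictD φ) :=
  ⟨(DTen.baseAdj φ).ofNatIsoLeft (lBaseIso φ)⟩

end Groth.Agent.DTenLib
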