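import Groth.Agent.DRingKP.LTensorCx
import Groth.Prelude.Def_DTen2

/-!
`⊗^L` of both variables is computed by K-flat complexes.
-/

set_option autoImplicit false
set_option linter.style.haveILetI false
universe u

namespace Groth.Agent.DTenLib

open CategoryTheory Limits MonoidalCategory DRingKP

attribute [local instance] HasDerivedCategory.standard

/-- two out of three for products of classes of maps -/
instance hasTwoOutOfThreeProperty_prod {C D : Type*} [Category* C] [Category* D] (W : MorphismProperty C)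
    (W' : MorphismProperty D) [W.HasTwoOutOfThreeProperty] [W'.HasTwoOutOfThreeProperty] :
    (W.prod W').HasTwoOutOfThreeProperty where
  comp_mem f g hf hg := ⟨W.comp_mem _ _ hf.1 hg.1, W'.comp_mem _ _ hf.2 hg.2⟩
  of_postcomp f g hg hfg := ⟨W.of_postcomp _ _ hg.1 hfg.1, W'.of_postcomp _ _ hg.2 hfg.2⟩
  of_precomp f g hf hfg := ⟨W.of_precomp _ _ hf.1 hfg.1, W'.of_precomp _ _ hf.2 hfg.2⟩

variable {A : Type u} [CommRing A]

/-- functorial K-flat resolution -/
noncomputable abbrev res : DRing.Cx A ⥤ DRing.Cx A :=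
  KFlat.resFunctor (freeP (A := A)) (freeπ (A := A))

/-- its augmentation -/
noncomputable abbrev resψ : res (A := A) ⟶ 𝟭 (DRing.Cx A) :=
  KFlat.resNat (freeP (A := A)) (freeπ (A := A))

lemma isKFlat_res (G : DRing.Cx A) : DRing.IsKFlat A (res.obj G) :=
  (rflat_iff _).1 (KFlat.resFunctor_spec (freeP (A := A)) (freeπ (A := A)) (tB A) flat_freeP
    (preservesNat_tB A) (preservesDiscrete_tB A) G).1

lemma qis_resψ (G : DRing.Cx A) : DTen.qis A (resψ.app G) :=
  (KFlat.resFunctor_spec (freeP (A := A)) (freeπ (A := A)) (tB A) flat_freeP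
    (preservesNat_tB A) (preservesDiscrete_tB A) G).2.2

lemma isIso_Q_resψ (G : DRing.Cx A) : IsIso (DerivedCategory.Q.map (resψ.app G)) := by
  have : QuasiIso (resψ.app G) := qis_resψ G
  infer_instance

/-- any object of `D(A)` comes from a K-flat complex -/
lemma exists_kFlat_rep (X : Dual.D A) :
    ∃ (K : DRing.Cx A), DRing.IsKFlat A K ∧ Nonempty (DerivedCategory.Q.obj K ≅ X) :=
  haveI := isIso_Q_resψ (DerivedCategory.Q.objPreimage X)
  ⟨_, isKFlat_res (DerivedCategory.Q.objPreimage X),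
    ⟨asIso (DerivedCategory.Q.map (resψ.app (DerivedCategory.Q.objPreimage X))) ≪≫
      DerivedCategory.Q.objObjPreimageIso X⟩⟩

lemma isKFlat_tensor {K L : DRing.Cx A} (hK : DRing.IsKFlat A K) (hL : DRing.IsKFlat A L) :
    DRing.IsKFlat A (K ⊗ L) := fun M hM i =>
  (hL (M ⊗ K) (hK M hM) i).of_iso
    ((HomologicalComplex.homologyFunctor _ _ i).mapIso (α_ M K L).symm)

lemma isKFlat_comm {K : DRing.Cx A} (hK : DRing.IsKFlat A K) {L L' : DRing.Cx A} (f : L ⟶ L')
    (hf : DTen.qis A f) : QuasiIso (K ◁ f) := by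
  have : QuasiIso f := hf
  have := DRingKP.quasiIso_whiskerRight hK f
  have h : (DTen.braidCx K L).hom ≫ (f ▷ K) = (K ◁ f) ≫ (DTen.braidCx K L').hom := by
    have := (DTen.braidCx_naturality (𝟙 K) f).symm
    simpa only [id_tensorHom, tensorHom_id] using this
  have : QuasiIso ((K ◁ f) ≫ (DTen.braidCx K L').hom) := h ▸ inferInstance
  exact quasiIso_of_comp_right (K ◁ f) (DTen.braidCx K L').hom

/-- both K-flat -/
def KF₂ : ObjectProperty (DRing.Cx A × DRing.Cx A) := fun X => DRing.IsKFlat A X.2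

/-- resolutions of pairs -/
noncomputable def leftRes₂ : KFlat.LeftRes (DTen.qis₂ A) (DTen.tensor₂ A) KF₂ where
  ρ := (𝟭 _).prod res
  ψ :=
    { app := fun X => Prod.mkHom (𝟙 X.1) (resψ.app X.2)
      naturality := fun X Y f => Prod.ext ((Category.comp_id _).trans (Category.id_comp _).symm)
        (resψ.naturality f.2) }
  mem X := isKFlat_res X.2
  weq X := ⟨MorphismProperty.id_mem _ _, qis_resψ X.2⟩
  isIso_map {X Y} f hX hY hf := by
    have : QuasiIso f.1 := hf.1
    have : QuasiIso f.2 := hf.2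
    have := DRingKP.quasiIso_whiskerRight (K := X.2) hX f.1
    have := DRingKP.quasiIso_whiskerLeft f.2 hX hY Y.1
    change IsIso (DerivedCategory.Q.map (f.1 ▷ X.2 ≫ Y.1 ◁ f.2))
    infer_instance

theorem hasLTen : DTen.HasLTen A := leftRes₂.hasLeftDerivedFunctor

/-- K-flat on the left -/
def KF₂' : ObjectProperty (DRing.Cx A × DRing.Cx A) := fun X => DRing.IsKFlat A X.1

/-- resolutions of pairs, on the left -/
noncomputable def leftRes₂' : KFlat.LeftRes (DTen.qis₂ A) (DTen.tensor₂ A) KF₂' where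
  ρ := res.prod (𝟭 _)
  ψ :=
    { app := fun X => Prod.mkHom (resψ.app X.1) (𝟙 X.2)
      naturality := fun X Y f => Prod.ext (resψ.naturality f.1)
        ((Category.comp_id _).trans (Category.id_comp _).symm) }
  mem X := isKFlat_res X.1
  weq X := ⟨qis_resψ X.1, MorphismProperty.id_mem _ _⟩
  isIso_map {X Y} f hX hY hf := by
    have : QuasiIso f.1 := hf.1
    have := DRingKP.quasiIso_whisker_left_flat f.1 hX hY X.2
    have := isKFlat_comm (K := Y.1) hY f.2 hf.2
    change IsIso (DerivedCategory.Q.map (f.1 ▷ X.2 ≫ Y.1 ◁ f.2))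
    infer_instance

lemma isIso_ε_right [DTen.HasLTen A] (K : DRing.Cx A) {L : DRing.Cx A} (hL : DRing.IsKFlat A L) :
    IsIso ((DTen.ε A).app (K, L)) :=
  leftRes₂.isIso_app (DTen.LTen₂ A) (DTen.ε A) (X := (K, L)) hL

lemma isIso_ε_left [DTen.HasLTen A] {K : DRing.Cx A} (hK : DRing.IsKFlat A K) (L : DRing.Cx A) :
    IsIso ((DTen.ε A).app (K, L)) :=
  leftRes₂'.isIso_app (DTen.LTen₂ A) (DTen.ε A) (X := (K, L)) hK

/-- last two K-flat -/
def KF₃ : ObjectProperty (DRing.Cx A × (DRing.Cx A × DRing.Cx A)) :=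
  fun X => DRing.IsKFlat A X.2.1 ∧ DRing.IsKFlat A X.2.2

/-- resolutions of triples -/
noncomputable def leftRes₃ : KFlat.LeftRes (DTen.qis₃ A) (DTen.tensor₃ A) KF₃ where
  ρ := (𝟭 _).prod (res.prod res)
  ψ :=
    { app := fun X => Prod.mkHom (𝟙 X.1) (Prod.mkHom (resψ.app X.2.1) (resψ.app X.2.2))
      naturality := fun X Y f => Prod.ext ((Category.comp_id _).trans (Category.id_comp _).symm)
        (Prod.ext (resψ.naturality f.2.1) (resψ.naturality f.2.2)) }
  mem X := ⟨isKFlat_res X.2.1, isKFlat_res X.2.2⟩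
  weq X := ⟨MorphismProperty.id_mem _ _, qis_resψ X.2.1, qis_resψ X.2.2⟩
  isIso_map {X Y} f hX hY hf := by
    have : QuasiIso f.1 := hf.1
    have : QuasiIso f.2.1 := hf.2.1
    have : QuasiIso f.2.2 := hf.2.2
    have hX' := isKFlat_tensor hX.1 hX.2
    have hY' := isKFlat_tensor hY.1 hY.2
    have := DRingKP.quasiIso_whiskerRight (K := X.2.2) hX.2 f.2.1
    have := DRingKP.quasiIso_whiskerLeft f.2.2 hX.2 hY.2 Y.2.1
    have := DRingKP.quasiIso_whiskerRight (K := X.2.1 ⊗ X.2.2) hX' f.1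
    have := DRingKP.quasiIso_whiskerLeft (f.2.1 ▷ X.2.2 ≫ Y.2.1 ◁ f.2.2) hX' hY' Y.1
    change IsIso (DerivedCategory.Q.map (f.1 ▷ (X.2.1 ⊗ X.2.2) ≫ Y.1 ◁ (f.2.1 ▷ X.2.2 ≫ Y.2.1 ◁ f.2.2)))
    infer_instance

theorem hasLTen₃ : DTen.HasLTen₃ A := leftRes₃.hasLeftDerivedFunctor

lemma isIso_ε₃ [DTen.HasLTen₃ A] (K : DRing.Cx A) {L M : DRing.Cx A} (hL : DRing.IsKFlat A L)
    (hM : DRing.IsKFlat A M) : IsIso ((DTen.ε₃ A).app (K, (L, M))) :=
  leftRes₃.isIso_app (DTen.LTen₃ A) (DTen.ε₃ A) (X := (K, (L, M))) ⟨hL, hM⟩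

end Groth.Agent.DTenLib
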