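import Groth.Agent.DTenLib.DualCx
import Mathlib.CategoryTheory.Monoidal.Braided.Basic

/-!
`braidCx` is a symmetry.
-/

set_option autoImplicit false
set_option linter.style.haveILetI false
universe u

namespace Groth.Agent.DTenLib

open CategoryTheory Limits MonoidalCategory HomologicalComplex PreDual

variable {A : Type u} [CommRing A]

lemma units_smul_whiskerRight' {M N : ModuleCat.{u} A} (s : ℤˣ) (f : M ⟶ N) (X : ModuleCat.{u} A) :
    (s • f) ▷ X = s • (f ▷ X) := by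
  rcases Int.units_eq_one_or s with rfl | rfl <;> simp
  exact ((tensoringRight (ModuleCat.{u} A)).obj X).map_neg

lemma units_whiskerLeft_smul' {M N : ModuleCat.{u} A} (s : ℤˣ) (X : ModuleCat.{u} A) (f : M ⟶ N) :
    X ◁ (s • f) = s • (X ◁ f) := by
  rcases Int.units_eq_one_or s with rfl | rfl <;> simp
  exact ((tensoringLeft (ModuleCat.{u} A)).obj X).map_neg

lemma braid_braid (K L : DRing.Cx A) : (DTen.braidCx K L).hom ≫ (DTen.braidCx L K).hom = 𝟙 _ := by
  refine HomologicalComplex.hom_ext _ _ fun n => mapBifunctor.hom_ext fun p q h => ?_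
  change ιTensorObj K L p q n h ≫ (DTen.braidCx K L).hom.f n ≫ (DTen.braidCx L K).hom.f n = _
  rw [DTen.ι_braidCx_hom_assoc K L p q n h]
  erw [Linear.units_smul_comp, Category.assoc, DTen.ι_braidCx_hom L K q p n (by dsimp at h ⊢; lia)]
  rw [Linear.comp_units_smul, smul_smul, mul_comm q p, Int.units_mul_self, one_smul,
    SymmetricCategory.symmetry_assoc]
  exact (Category.comp_id _).symm

lemma hexagon_fwd (X Y Z : DRing.Cx A) :
    (α_ X Y Z).hom ≫ (DTen.braidCx X (Y ⊗ Z)).hom ≫ (α_ Y Z X).hom =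
      (DTen.braidCx X Y).hom ▷ Z ≫ (α_ Y X Z).hom ≫ Y ◁ (DTen.braidCx X Z).hom := by
  refine HomologicalComplex.hom_ext _ _ fun n => mapBifunctor₁₂.hom_ext fun i j k h => ?_
  have hn : i + j + k = n := h
  rw [mapBifunctor₁₂.ι_eq (curriedTensor (ModuleCat.{u} A)) (curriedTensor (ModuleCat.{u} A))
    X Y Z (ComplexShape.up ℤ) (ComplexShape.up ℤ) i j k (i + j) n rfl hn]
  change (ιTensorObj X Y i j (i + j) rfl ▷ Z.X k ≫ ιTensorObj (X ⊗ Y) Z (i + j) k n hn) ≫ _ =
    (ιTensorObj X Y i j (i + j) rfl ▷ Z.X k ≫ ιTensorObj (X ⊗ Y) Z (i + j) k n hn) ≫ _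
  simp only [HomologicalComplex.comp_f, Category.assoc]
  have hl : (ιTensorObj X Y i j (i + j) rfl ▷ Z.X k) ≫ ιTensorObj (X ⊗ Y) Z (i + j) k n hn ≫
      (α_ X Y Z).hom.f n ≫ (DTen.braidCx X (Y ⊗ Z)).hom.f n ≫ (α_ Y Z X).hom.f n =
      (i * (j + k)).negOnePow • (((α_ (X.X i) (Y.X j) (Z.X k)).hom ≫ (β_ (X.X i) (Y.X j ⊗ Z.X k)).hom ≫
        (α_ (Y.X j) (Z.X k) (X.X i)).hom) ≫ (Y.X j ◁ ιTensorObj Z X k i (k + i) rfl) ≫
        ιTensorObj Y (Z ⊗ X) j (k + i) n (by lia)) := by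
    rw [ι_assoc_hom_assoc X Y Z i j k n (i + j) (j + k) rfl hn rfl (by lia)]
    erw [DTen.ι_braidCx_hom_assoc X (Y ⊗ Z) i (j + k) n (by lia)]
    simp only [Linear.units_smul_comp, Linear.comp_units_smul, Category.assoc]
    congr 1
    erw [BraidedCategory.braiding_naturality_right_assoc]
    erw [ι_assoc_hom Y Z X j k i n (j + k) (k + i) rfl (by lia) rfl (by lia)]
  have hr : (ιTensorObj X Y i j (i + j) rfl ▷ Z.X k) ≫ ιTensorObj (X ⊗ Y) Z (i + j) k n hn ≫
      ((DTen.braidCx X Y).hom ▷ Z).f n ≫ (α_ Y X Z).hom.f n ≫ (Y ◁ (DTen.braidCx X Z).hom).f n =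
      (i * j).negOnePow • (i * k).negOnePow • ((((β_ (X.X i) (Y.X j)).hom ▷ Z.X k) ≫
        (α_ (Y.X j) (X.X i) (Z.X k)).hom ≫ (Y.X j ◁ (β_ (X.X i) (Z.X k)).hom)) ≫
          (Y.X j ◁ ιTensorObj Z X k i (k + i) rfl) ≫ ιTensorObj Y (Z ⊗ X) j (k + i) n (by lia)) := by
    erw [ι_whiskerRight_f_assoc (DTen.braidCx X Y).hom Z (i + j) k n hn]
    rw [← comp_whiskerRight_assoc, DTen.ι_braidCx_hom X Y i j (i + j) rfl]
    erw [units_smul_whiskerRight', Linear.units_smul_comp]
    congr 1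
    simp only [comp_whiskerRight, Category.assoc]
    rw [ι_assoc_hom_assoc Y X Z j i k n (i + j) (k + i) (by lia) hn (by lia) (by lia)]
    rw [ι_whiskerLeft_f Y (DTen.braidCx X Z).hom j (k + i) n (by lia)]
    rw [← MonoidalCategory.whiskerLeft_comp_assoc]
    rw [DTen.ι_braidCx_hom X Z i k (k + i) (by lia)]
    rw [units_whiskerLeft_smul']
    simp only [Linear.units_smul_comp, Linear.comp_units_smul, MonoidalCategory.whiskerLeft_comp, Category.assoc]
  refine hl.trans (Eq.trans ?_ hr.symm)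
  rw [smul_smul, ← Int.negOnePow_add, mul_add, BraidedCategory.hexagon_forward]

/-- the symmetry as an isomorphism -/
noncomputable def braidIso (K L : DRing.Cx A) : K ⊗ L ≅ L ⊗ K where
  hom := (DTen.braidCx K L).hom
  inv := (DTen.braidCx L K).hom
  hom_inv_id := braid_braid K L
  inv_hom_id := braid_braid L K

lemma hexagon_rev (X Y Z : DRing.Cx A) :
    (α_ X Y Z).inv ≫ (braidIso (X ⊗ Y) Z).hom ≫ (α_ Z X Y).inv =
      (X ◁ (braidIso Y Z).hom) ≫ (α_ X Z Y).inv ≫ ((braidIso X Z).hom ▷ Y) := by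
  have h := hexagon_fwd Z X Y
  have h' : α_ Z X Y ≪≫ braidIso Z (X ⊗ Y) ≪≫ α_ X Y Z =
      whiskerRightIso (braidIso Z X) Y ≪≫ α_ X Z Y ≪≫ whiskerLeftIso X (braidIso Z Y) := Iso.ext h
  have h2 := congrArg Iso.inv h'
  simp only [Iso.trans_inv, whiskerRightIso_inv, whiskerLeftIso_inv, Category.assoc] at h2
  exact h2

/-- the braiding of complexes -/
@[reducible] noncomputable def braidedCx : BraidedCategory (DRing.Cx A) where
  braiding K L := braidIso K L
  braiding_naturality_right X {Y Z} f := by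
    have h := DTen.braidCx_naturality (𝟙 X) f
    rw [MonoidalCategory.id_tensorHom, MonoidalCategory.tensorHom_id] at h
    exact h
  braiding_naturality_left {X Y} f Z := by
    have h := DTen.braidCx_naturality f (𝟙 Z)
    rw [MonoidalCategory.id_tensorHom, MonoidalCategory.tensorHom_id] at h
    exact h
  hexagon_forward := hexagon_fwd
  hexagon_reverse := hexagon_rev

end Groth.Agent.DTenLib
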