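import Groth.Agent.DTenLib.Basic
import Groth.Prelude.Def_DTen3
import Mathlib.CategoryTheory.Adjunction.Mates

/-!
The curry map of the closed structure is an isomorphism.
-/

set_option autoImplicit false
set_option linter.style.haveILetI false
universe u

namespace Groth.Agent.DTenLib

open CategoryTheory Limits MonoidalCategory

attribute [local instance] HasDerivedCategory.standard

variable {A : Type u} [CommRing A] [DTen.HasLTen A] [DTen.HasLTen₃ A] [DTen.IsSymMonoidal A]

lemma associator_natural_left {a a' : Dual.D A} (f : a ⟶ a') (K L : Dual.D A) :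
    (DTen.LTen₂ A).map (Prod.mkHom ((DTen.LTen₂ A).map (Prod.mkHom f (𝟙 K))) (𝟙 L)) ≫
        (DTen.associator a' K L).hom =
      (DTen.associator a K L).hom ≫
        (DTen.LTen₂ A).map (Prod.mkHom f (𝟙 ((DTen.LTen₂ A).obj (K, L)))) := by
  let φ : ((a, (K, L)) : Dual.D A × (Dual.D A × Dual.D A)) ⟶ (a', (K, L)) :=
    Prod.mkHom f (Prod.mkHom (𝟙 K) (𝟙 L))
  have hL := (DTen.assocL A).naturality φ
  have hR := (DTen.assocR A).naturality φ
  have hid : (DTen.LTen₂ A).map (Prod.mkHom (𝟙 K) (𝟙 L)) = 𝟙 ((DTen.LTen₂ A).obj (K, L)) :=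
    (DTen.LTen₂ A).map_id (K, L)
  rw [← cancel_mono ((DTen.assocR A).app (a', (K, L))), Category.assoc, Category.assoc,
    DTen.associator_hom_assocR]
  refine hL.trans ?_
  rw [← DTen.associator_hom_assocR a K L]
  refine (Category.assoc _ _ _).trans (congrArg _ (hR.symm.trans ?_))
  refine congrArg (· ≫ _) ?_
  change (DTen.LTen₂ A).map (Prod.mkHom f ((DTen.LTen₂ A).map (Prod.mkHom (𝟙 K) (𝟙 L)))) = _
  rw [hid]

/-- `(- ⊗ K) ⊗ L ≅ - ⊗ (K ⊗ L)` -/
noncomputable def tensorAssoc (K L : Dual.D A) :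
    DTen.tensorRightD A K ⋙ DTen.tensorRightD A L ≅ DTen.tensorRightD A ((DTen.LTen₂ A).obj (K, L)) :=
  NatIso.ofComponents (fun a => DTen.associator a K L) (fun f => associator_natural_left f K L)

variable [DTen.HasRHom A]

lemma curryHom_eq (K L M : Dual.D A) :
    DTen.curryHom K L M =
      (conjugateEquiv (DTen.rhomAdj A ((DTen.LTen₂ A).obj (K, L)))
        ((DTen.rhomAdj A K).comp (DTen.rhomAdj A L)) (tensorAssoc K L).hom).app M := by
  refine (((DTen.rhomAdj A K).comp (DTen.rhomAdj A L)).homEquiv _ _).symm.injective ?_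
  have h := conjugateEquiv_counit (DTen.rhomAdj A ((DTen.LTen₂ A).obj (K, L)))
    ((DTen.rhomAdj A K).comp (DTen.rhomAdj A L)) (tensorAssoc K L).hom M
  refine Eq.trans ?_ ((Adjunction.homEquiv_counit ((DTen.rhomAdj A K).comp (DTen.rhomAdj A L)) _ _ _).trans h).symm
  rw [Adjunction.homEquiv_counit, Adjunction.comp_counit_app]
  have h2 := DTen.curryHom_fac K L M
  change (DTen.tensorRightD A L).map ((DTen.tensorRightD A K).map (DTen.curryHom K L M)) ≫
    (DTen.tensorRightD A L).map ((DTen.rhomAdj A K).counit.app _) ≫ (DTen.rhomAdj A L).counit.app M = _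
  rw [← Functor.map_comp_assoc]
  exact h2

theorem isIso_curryHom (K L M : Dual.D A) : IsIso (DTen.curryHom K L M) := by
  rw [curryHom_eq]
  infer_instance

end Groth.Agent.DTenLib
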