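import Groth.Agent.DTenLib.Basic
import Mathlib.CategoryTheory.Monoidal.Rigid.Basic

/-!
Exact pairings of bounded complexes from termwise ones.
-/

set_option autoImplicit false
set_option linter.style.haveILetI false
universe u

namespace Groth.Agent.DTenLib

open CategoryTheory Limits MonoidalCategory HomologicalComplex

variable {A : Type u} [CommRing A]

/-- termwise duality data -/
structure PreDual (E F : DRing.Cx A) where
  /-- support -/
  s : Finset ℤ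
  hs : ∀ p, p ∉ s → IsZero (E.X p)
  /-- evaluations -/
  ev : ∀ p q : ℤ, p + q = 0 → (F.X q ⊗ E.X p ⟶ 𝟙_ (ModuleCat.{u} A))
  /-- coevaluations -/
  co : ∀ p q : ℤ, p + q = 0 → (𝟙_ (ModuleCat.{u} A) ⟶ E.X p ⊗ F.X q)
  zig₁ : ∀ (p q : ℤ) (h : p + q = 0),
    (co p q h ▷ E.X p) ≫ (α_ _ _ _).hom ≫ (E.X p ◁ ev p q h) = (λ_ (E.X p)).hom ≫ (ρ_ (E.X p)).inv
  zig₂ : ∀ (p q : ℤ) (h : p + q = 0),
    (F.X q ◁ co p q h) ≫ (α_ _ _ _).inv ≫ (ev p q h ▷ F.X q) = (ρ_ (F.X q)).hom ≫ (λ_ (F.X q)).inv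
  hev : ∀ (p p' q q' : ℤ), p + 1 = p' → q + 1 = q' → ∀ (h : p + q' = 0) (h' : p' + q = 0),
    (F.d q q' ▷ E.X p) ≫ ev p q' h + q.negOnePow • ((F.X q ◁ E.d p p') ≫ ev p' q h') = 0
  hco : ∀ (p p' q q' : ℤ), p + 1 = p' → q + 1 = q' → ∀ (h : p + q' = 0) (h' : p' + q = 0),
    co p q' h ≫ (E.d p p' ▷ F.X q') + p'.negOnePow • (co p' q h' ≫ (E.X p' ◁ F.d q q')) = 0

namespace PreDual

variable {E F : DRing.Cx A} (P : PreDual E F)

/-- evaluation in degree zero -/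
noncomputable def ev₀ : (F ⊗ E).X 0 ⟶ 𝟙_ (ModuleCat.{u} A) :=
  mapBifunctorDesc (fun q p h => P.ev p q ((add_comm p q).trans h))

@[reassoc]
lemma ι_ev₀ (q p : ℤ) (h : q + p = 0) :
    ιTensorObj F E q p 0 h ≫ P.ev₀ = P.ev p q ((add_comm p q).trans h) :=
  ι_mapBifunctorDesc _ q p h

/-- evaluation -/
noncomputable def ε : F ⊗ E ⟶ 𝟙_ (DRing.Cx A) :=
  mkHomToSingle P.ev₀ (fun i hi => mapBifunctor.hom_ext (fun q p h => by
    change ιTensorObj F E q p i h ≫ (mapBifunctor F E _ _).d i 0 ≫ P.ev₀ = ιTensorObj F E q p i h ≫ 0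
    rw [comp_zero, mapBifunctor.d_eq, Preadditive.add_comp, Preadditive.comp_add, mapBifunctor.ι_D₁_assoc,
      mapBifunctor.ι_D₂_assoc]
    have hi' : i + 1 = 0 := hi
    dsimp at h
    rw [mapBifunctor.d₁_eq _ _ _ _ (show (ComplexShape.up ℤ).Rel q (q + 1) by simp) p 0 (by dsimp; lia),
      mapBifunctor.d₂_eq _ _ _ _ q (show (ComplexShape.up ℤ).Rel p (p + 1) by simp) 0 (by dsimp; lia)]
    simp only [Linear.units_smul_comp, Category.assoc]
    erw [P.ι_ev₀ (q + 1) p (by lia), P.ι_ev₀ q (p + 1) (by lia)]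
    exact (by simpa using P.hev p (p + 1) q (q + 1) rfl rfl (by lia) (by lia))))

/-- coevaluation in degree zero -/
noncomputable def co₀ : 𝟙_ (ModuleCat.{u} A) ⟶ (E ⊗ F).X 0 :=
  ∑ p ∈ P.s, P.co p (-p) (add_neg_cancel p) ≫ ιTensorObj E F p (-p) 0 (add_neg_cancel p)

lemma co_eq_zero {p q : ℤ} (h : p + q = 0) (hp : p ∉ P.s) : P.co p q h = 0 :=
  ((IsZero.iff_id_eq_zero _).2 (by
    rw [← MonoidalCategory.id_whiskerRight, (P.hs p hp).eq_of_src (𝟙 _) 0]
    simp) : IsZero (E.X p ⊗ F.X q)).eq_of_tgt _ _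

/-- coevaluation -/
noncomputable def η : 𝟙_ (DRing.Cx A) ⟶ E ⊗ F :=
  mkHomFromSingle P.co₀ (fun k hk => by
    change P.co₀ ≫ (mapBifunctor E F _ _).d 0 k = 0
    obtain rfl : k = 1 := by simpa using hk.symm
    let T : ℤ → (𝟙_ (ModuleCat.{u} A) ⟶ (E ⊗ F).X 1) := fun p =>
      P.co p (-p) (add_neg_cancel p) ≫ (E.d p (p + 1) ▷ F.X (-p)) ≫ ιTensorObj E F (p + 1) (-p) 1 (by lia)
    have h1 : P.co₀ ≫ (mapBifunctor E F (curriedTensor (ModuleCat.{u} A)) (ComplexShape.up ℤ)).d 0 1 =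
        ∑ p ∈ P.s, (T p - T (p - 1)) := by
      rw [co₀, Preadditive.sum_comp]
      refine Finset.sum_congr rfl fun p _ => ?_
      rw [Category.assoc, mapBifunctor.d_eq, Preadditive.comp_add, mapBifunctor.ι_D₁, mapBifunctor.ι_D₂,
        mapBifunctor.d₁_eq _ _ _ _ (show (ComplexShape.up ℤ).Rel p (p + 1) by simp) (-p) 1 (by dsimp; lia),
        mapBifunctor.d₂_eq _ _ _ _ p (show (ComplexShape.up ℤ).Rel (-p) (-p + 1) by simp) 1 (by dsimp; lia)]
      have key : ∀ (q q' : ℤ) (hq : q + 1 = q') (hpq : p + q = 0) (hq' : (p - 1) + q' = 0),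
          p.negOnePow • (P.co p q hpq ≫ (E.X p ◁ F.d q q') ≫ ιTensorObj E F p q' 1 (by lia)) = -T (p - 1) := by
        intro q q' hq hpq hq'
        obtain rfl : q' = -(p - 1) := by lia
        obtain rfl : q = -p := by lia
        have h := congrArg (· ≫ ιTensorObj E F p (-(p - 1)) 1 (by lia))
          (P.hco (p - 1) p (-p) (-(p - 1)) (by lia) hq hq' hpq)
        simp only [Preadditive.add_comp, zero_comp, Linear.units_smul_comp, Category.assoc] at h
        rw [eq_neg_of_add_eq_zero_right h]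
        have aux : ∀ (p₀ p' q₀ : ℤ), p₀ + 1 = p' → q₀ = -p₀ → ∀ (h₀ : p₀ + q₀ = 0) (h' : p' + q₀ = 1),
            P.co p₀ q₀ h₀ ≫ E.d p₀ p' ▷ F.X q₀ ≫ ιTensorObj E F p' q₀ 1 h' = T p₀ := by
          rintro p₀ p' q₀ rfl rfl h₀ h'
          rfl
        exact congrArg Neg.neg (aux (p - 1) p (-(p - 1)) (by omega) rfl (by omega) (by omega))
      simp only [Preadditive.comp_add, Linear.comp_units_smul]
      rw [sub_eq_add_neg, ← key (-p) (-p + 1) rfl (by omega) (by omega)]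
      congr 1
      simp
      rfl
    have hT : ∀ p, T p ≠ 0 → p ∈ P.s ∧ p + 1 ∈ P.s := fun p hp => by
      constructor
      · by_contra h
        exact hp (by simp [T, P.co_eq_zero _ h])
      · by_contra h
        refine hp ?_
        simp [T, (P.hs _ h).eq_of_tgt (E.d p (p + 1)) 0]
    rw [h1, Finset.sum_sub_distrib, sub_eq_zero]
    exact Finset.sum_bij_ne_zero (fun p _ _ => p + 1) (fun p _ hp => (hT p hp).2)
      (fun _ _ _ _ _ _ h => by lia)
      (fun p _ hp => ⟨p - 1, (hT _ hp).1, hp, by lia⟩) (fun p _ _ => by simp))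

lemma η_f_zero : P.η.f 0 = (singleObjXSelf (ComplexShape.up ℤ) 0 (𝟙_ (ModuleCat.{u} A))).hom ≫ P.co₀ :=
  mkHomFromSingle_f _ _

lemma leftUnitor_inv_f (K : DRing.Cx A) (n : ℤ) :
    (λ_ K).inv.f n = (λ_ (K.X n)).inv ≫ ((singleObjXSelf (ComplexShape.up ℤ) 0 (𝟙_ (ModuleCat.{u} A))).inv ▷ K.X n) ≫
      ιTensorObj (tensorUnit (ModuleCat.{u} A) (ComplexShape.up ℤ)) K 0 n n (zero_add n) :=
  leftUnitor'_inv K n

lemma rightUnitor_inv_f (K : DRing.Cx A) (n : ℤ) :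
    (ρ_ K).inv.f n = (ρ_ (K.X n)).inv ≫ (K.X n ◁ (singleObjXSelf (ComplexShape.up ℤ) 0 (𝟙_ (ModuleCat.{u} A))).inv) ≫
      ιTensorObj K (tensorUnit (ModuleCat.{u} A) (ComplexShape.up ℤ)) n 0 n (add_zero n) :=
  rightUnitor'_inv K n

@[reassoc]
lemma ι_whiskerRight_f {K K' : DRing.Cx A} (f : K ⟶ K') (L : DRing.Cx A) (i j n : ℤ) (h : i + j = n) :
    ιTensorObj K L i j n h ≫ (f ▷ L).f n = (f.f i ▷ L.X j) ≫ ιTensorObj K' L i j n h := by
  refine (ι_mapBifunctorMap f (𝟙 L) _ _ i j n h).trans ?_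
  simp

@[reassoc]
lemma ι_whiskerLeft_f (L : DRing.Cx A) {K K' : DRing.Cx A} (f : K ⟶ K') (i j n : ℤ) (h : i + j = n) :
    ιTensorObj L K i j n h ≫ (L ◁ f).f n = (L.X i ◁ f.f j) ≫ ιTensorObj L K' i j n h := by
  refine (ι_mapBifunctorMap (𝟙 L) f _ _ i j n h).trans ?_
  simp

@[reassoc]
lemma ι_assoc_hom (K L M : DRing.Cx A) (i j k n ij jk : ℤ) (hij : i + j = ij) (h : ij + k = n)
    (hjk : j + k = jk) (h' : i + jk = n) :
    (ιTensorObj K L i j ij hij ▷ M.X k) ≫ ιTensorObj (K ⊗ L) M ij k n h ≫ (α_ K L M).hom.f n =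
      (α_ (K.X i) (L.X j) (M.X k)).hom ≫ (K.X i ◁ ιTensorObj L M j k jk hjk) ≫
        ιTensorObj K (L ⊗ M) i jk n h' := by
  have h₀ : ComplexShape.r (ComplexShape.up ℤ) (ComplexShape.up ℤ) (ComplexShape.up ℤ) (ComplexShape.up ℤ)
      (ComplexShape.up ℤ) (i, j, k) = n := by
    change i + j + k = n
    lia
  refine (Category.assoc _ _ _).symm.trans ?_
  refine ((congrArg (· ≫ _) (mapBifunctor₁₂.ι_eq (curriedTensor (ModuleCat.{u} A)) (curriedTensor (ModuleCat.{u} A))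
    K L M (ComplexShape.up ℤ) (ComplexShape.up ℤ) i j k ij n hij h).symm).trans ?_).trans
    (congrArg _ (mapBifunctor₂₃.ι_eq (curriedTensor (ModuleCat.{u} A)) (curriedTensor (ModuleCat.{u} A))
      K L M (ComplexShape.up ℤ) (ComplexShape.up ℤ) (ComplexShape.up ℤ) i j k jk n hjk h'))
  exact ι_mapBifunctorAssociatorX_hom (curriedAssociatorNatIso (ModuleCat.{u} A)) K L M
    (ComplexShape.up ℤ) (ComplexShape.up ℤ) (ComplexShape.up ℤ) i j k n h₀

lemma ι_ε_f (q p : ℤ) (h : q + p = 0) :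
    ιTensorObj F E q p 0 h ≫ P.ε.f 0 = P.ev p q ((add_comm p q).trans h) ≫
      (singleObjXSelf (ComplexShape.up ℤ) 0 (𝟙_ (ModuleCat.{u} A))).inv := by
  rw [ε, mkHomToSingle_f]
  exact P.ι_ev₀_assoc q p h _

lemma triangle₁ : (P.η ▷ E) ≫ (α_ E F E).hom ≫ (E ◁ P.ε) = (λ_ E).hom ≫ (ρ_ E).inv := by
  rw [← Iso.inv_comp_eq]
  refine HomologicalComplex.hom_ext _ _ fun n => ?_
  by_cases hn : n ∈ P.s
  · change (λ_ E).inv.f n ≫ (P.η ▷ E).f n ≫ (α_ E F E).hom.f n ≫ (E ◁ P.ε).f n = (ρ_ E).inv.f n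
    rw [leftUnitor_inv_f, rightUnitor_inv_f]
    simp only [Category.assoc]
    erw [ι_whiskerRight_f_assoc P.η E 0 n n (zero_add n)]
    rw [P.η_f_zero, ← comp_whiskerRight_assoc]
    erw [Iso.inv_hom_id_assoc]
    rw [co₀, sum_whiskerRight, Preadditive.sum_comp, Preadditive.comp_sum, Finset.sum_eq_single n]
    · simp only [comp_whiskerRight, Category.assoc]
      erw [ι_assoc_hom_assoc E F E n (-n) n n 0 0 (by lia) (by lia) (by lia) (by lia)]
      erw [ι_whiskerLeft_f E P.ε n 0 n (add_zero n)]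
      rw [← MonoidalCategory.whiskerLeft_comp_assoc]
      erw [P.ι_ε_f (-n) n (by lia)]
      rw [MonoidalCategory.whiskerLeft_comp_assoc]
      erw [reassoc_of% P.zig₁ n (-n) (by lia)]
      erw [Iso.inv_hom_id_assoc]
      rfl
    · intro p _ hp
      simp only [comp_whiskerRight, Category.assoc]
      erw [ι_assoc_hom_assoc E F E p (-p) n n 0 (n - p) (by lia) (by lia) (by lia) (by lia)]
      erw [ι_whiskerLeft_f E P.ε p (n - p) n (by lia)]
      have : P.ε.f (n - p) = 0 :=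
        (isZero_single_obj_X (ComplexShape.up ℤ) 0 (𝟙_ (ModuleCat.{u} A)) (n - p) (by lia)).eq_of_tgt _ _
      rw [this]
      simp
    · exact fun h => (h hn).elim
  · exact (P.hs n hn).eq_of_src _ _

include P in
lemma isZero_right (q : ℤ) (hq : -q ∉ P.s) : IsZero (F.X q) := by
  rw [IsZero.iff_id_eq_zero]
  have h := P.zig₂ (-q) q (neg_add_cancel q)
  rw [P.co_eq_zero _ hq] at h
  simp only [MonoidalPreadditive.whiskerLeft_zero, zero_comp] at h
  rw [← cancel_epi (ρ_ (F.X q)).hom, ← cancel_mono (λ_ (F.X q)).inv]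
  simpa using h.symm

@[reassoc]
lemma ι_assoc_inv (K L M : DRing.Cx A) (i j k n ij jk : ℤ) (hij : i + j = ij) (h : ij + k = n)
    (hjk : j + k = jk) (h' : i + jk = n) :
    (K.X i ◁ ιTensorObj L M j k jk hjk) ≫ ιTensorObj K (L ⊗ M) i jk n h' ≫ (α_ K L M).inv.f n =
      (α_ (K.X i) (L.X j) (M.X k)).inv ≫ (ιTensorObj K L i j ij hij ▷ M.X k) ≫
        ιTensorObj (K ⊗ L) M ij k n h := by
  rw [Iso.eq_inv_comp]
  erw [← ι_assoc_hom_assoc K L M i j k n ij jk hij h hjk h' ((α_ K L M).inv.f n)]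
  rw [← HomologicalComplex.comp_f, Iso.hom_inv_id, HomologicalComplex.id_f]
  exact (congrArg _ (Category.comp_id _))

lemma triangle₂ : (F ◁ P.η) ≫ (α_ F E F).inv ≫ (P.ε ▷ F) = (ρ_ F).hom ≫ (λ_ F).inv := by
  rw [← Iso.inv_comp_eq]
  refine HomologicalComplex.hom_ext _ _ fun n => ?_
  by_cases hn : -n ∈ P.s
  · change (ρ_ F).inv.f n ≫ (F ◁ P.η).f n ≫ (α_ F E F).inv.f n ≫ (P.ε ▷ F).f n = (λ_ F).inv.f n
    rw [leftUnitor_inv_f, rightUnitor_inv_f]
    simp only [Category.assoc]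
    erw [ι_whiskerLeft_f_assoc F P.η n 0 n (add_zero n)]
    rw [P.η_f_zero, ← MonoidalCategory.whiskerLeft_comp_assoc]
    erw [Iso.inv_hom_id_assoc]
    rw [co₀, whiskerLeft_sum, Preadditive.sum_comp, Preadditive.comp_sum, Finset.sum_eq_single (-n)]
    · simp only [MonoidalCategory.whiskerLeft_comp, Category.assoc]
      erw [ι_assoc_inv_assoc F E F n (-n) (- -n) n 0 0 (by lia) (by lia) (by lia) (by lia)]
      erw [ι_whiskerRight_f P.ε F 0 (- -n) n (by lia)]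
      rw [← comp_whiskerRight_assoc]
      erw [P.ι_ε_f n (-n) (by lia)]
      have key : ∀ (m : ℤ) (hm : m = n) (h₁ : -n + m = 0) (h₂ : (-n) + n = 0),
          (ρ_ (F.X n)).inv ≫ (F.X n ◁ P.co (-n) m h₁) ≫ (α_ (F.X n) (E.X (-n)) (F.X m)).inv ≫
            ((P.ev (-n) n h₂ ≫ (singleObjXSelf (ComplexShape.up ℤ) 0 (𝟙_ (ModuleCat.{u} A))).inv) ▷ F.X m) ≫
              ιTensorObj (tensorUnit (ModuleCat.{u} A) (ComplexShape.up ℤ)) F 0 m n (by lia) =
          (λ_ (F.X n)).inv ≫ ((singleObjXSelf (ComplexShape.up ℤ) 0 (𝟙_ (ModuleCat.{u} A))).inv ▷ F.X n) ≫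
            ιTensorObj (tensorUnit (ModuleCat.{u} A) (ComplexShape.up ℤ)) F 0 n n (zero_add n) := by
        rintro m rfl h₁ h₂
        rw [comp_whiskerRight, Category.assoc]
        erw [reassoc_of% P.zig₂ (-m) m h₁]
        erw [Iso.inv_hom_id_assoc]
      exact key (- -n) (neg_neg n) _ _
    · intro p _ hp
      simp only [MonoidalCategory.whiskerLeft_comp, Category.assoc]
      erw [ι_assoc_inv_assoc F E F n p (-p) n (n + p) 0 (by lia) (by lia) (by lia) (by lia)]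
      erw [ι_whiskerRight_f P.ε F (n + p) (-p) n (by lia)]
      have : P.ε.f (n + p) = 0 :=
        (isZero_single_obj_X (ComplexShape.up ℤ) 0 (𝟙_ (ModuleCat.{u} A)) (n + p) (by lia)).eq_of_tgt _ _
      rw [this]
      simp
    · exact fun h => (h hn).elim
  · exact (P.isZero_right n hn).eq_of_src _ _

/-- the exact pairing -/
@[reducible] noncomputable def exactPairing : ExactPairing E F where
  coevaluation' := P.η
  evaluation' := P.ε
  coevaluation_evaluation' := P.triangle₂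
  evaluation_coevaluation' := P.triangle₁

end PreDual

end Groth.Agent.DTenLib
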