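import Mathlib.CategoryTheory.Monoidal.Functor
import Mathlib.CategoryTheory.EssentialImage

/-!
Monoidal structures from an essentially surjective functor out of a monoidal category.
-/

set_option autoImplicit false
universe v₁ v₂ u₁ u₂

namespace Groth.Agent.DTenLib

open CategoryTheory MonoidalCategory

section

variable {C : Type u₁} [Category.{v₁} C] [MonoidalCategory C]
  {D : Type u₂} [Category.{v₂} D] [MonoidalCategoryStruct D]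

/-- data making `F` compatible with monoidal operations on `D` -/
structure MonData (F : C ⥤ D) where
  id_tensorHom : ∀ (X : D) {Y Y' : D} (f : Y ⟶ Y'), 𝟙 X ⊗ₘ f = X ◁ f
  tensorHom_id : ∀ {X X' : D} (f : X ⟶ X') (Y : D), f ⊗ₘ 𝟙 Y = f ▷ Y
  id_id : ∀ (X Y : D), 𝟙 X ⊗ₘ 𝟙 Y = 𝟙 (X ⊗ Y)
  comp : ∀ {X Y Z X' Y' Z' : D} (f : X ⟶ Y) (g : Y ⟶ Z) (f' : X' ⟶ Y') (g' : Y' ⟶ Z'),
    (f ⊗ₘ f') ≫ (g ⊗ₘ g') = (f ≫ g) ⊗ₘ (f' ≫ g')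
  assoc_nat : ∀ {X Y Z X' Y' Z' : D} (f : X ⟶ X') (g : Y ⟶ Y') (h : Z ⟶ Z'),
    ((f ⊗ₘ g) ⊗ₘ h) ≫ (α_ X' Y' Z').hom = (α_ X Y Z).hom ≫ (f ⊗ₘ (g ⊗ₘ h))
  left_nat : ∀ {X Y : D} (f : X ⟶ Y), (𝟙_ D ◁ f) ≫ (λ_ Y).hom = (λ_ X).hom ≫ f
  right_nat : ∀ {X Y : D} (f : X ⟶ Y), (f ▷ 𝟙_ D) ≫ (ρ_ Y).hom = (ρ_ X).hom ≫ f
  μ : ∀ X Y : C, F.obj X ⊗ F.obj Y ≅ F.obj (X ⊗ Y)
  μ_nat : ∀ {X Y X' Y' : C} (f : X ⟶ X') (g : Y ⟶ Y'),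
    (F.map f ⊗ₘ F.map g) ≫ (μ X' Y').hom = (μ X Y).hom ≫ F.map (f ⊗ₘ g)
  unit : 𝟙_ D ≅ F.obj (𝟙_ C)
  hα : ∀ X Y Z : C, ((μ X Y).hom ⊗ₘ 𝟙 (F.obj Z)) ≫ (μ (X ⊗ Y) Z).hom ≫ F.map (α_ X Y Z).hom =
    (α_ (F.obj X) (F.obj Y) (F.obj Z)).hom ≫ (𝟙 (F.obj X) ⊗ₘ (μ Y Z).hom) ≫ (μ X (Y ⊗ Z)).hom
  hl : ∀ X : C, (λ_ (F.obj X)).hom = (unit.hom ⊗ₘ 𝟙 (F.obj X)) ≫ (μ (𝟙_ C) X).hom ≫ F.map (λ_ X).hom
  hr : ∀ X : C, (ρ_ (F.obj X)).hom = (𝟙 (F.obj X) ⊗ₘ unit.hom) ≫ (μ X (𝟙_ C)).hom ≫ F.map (ρ_ X).hom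

variable {F : C ⥤ D} (d : MonData F)

namespace MonData

include d

lemma isIso_tensorHom {X X' Y Y' : D} (f : X ⟶ Y) (g : X' ⟶ Y') [IsIso f] [IsIso g] : IsIso (f ⊗ₘ g) :=
  ⟨inv f ⊗ₘ inv g, by rw [d.comp, IsIso.hom_inv_id, IsIso.hom_inv_id, d.id_id],
    by rw [d.comp, IsIso.inv_hom_id, IsIso.inv_hom_id, d.id_id]⟩

lemma pentagon_obj (W X Y Z : C) :
    ((α_ (F.obj W) (F.obj X) (F.obj Y)).hom ⊗ₘ 𝟙 (F.obj Z)) ≫ (α_ (F.obj W) (F.obj X ⊗ F.obj Y) (F.obj Z)).hom ≫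
        (𝟙 (F.obj W) ⊗ₘ (α_ (F.obj X) (F.obj Y) (F.obj Z)).hom) =
      (α_ (F.obj W ⊗ F.obj X) (F.obj Y) (F.obj Z)).hom ≫ (α_ (F.obj W) (F.obj X) (F.obj Y ⊗ F.obj Z)).hom := by
  let m := (𝟙 (F.obj W) ⊗ₘ ((𝟙 (F.obj X) ⊗ₘ (d.μ Y Z).hom) ≫ (d.μ X (Y ⊗ Z)).hom)) ≫ (d.μ W (X ⊗ (Y ⊗ Z))).hom
  let n := ((((d.μ W X).hom ⊗ₘ 𝟙 (F.obj Y)) ≫ (d.μ (W ⊗ X) Y).hom) ⊗ₘ 𝟙 (F.obj Z)) ≫ (d.μ ((W ⊗ X) ⊗ Y) Z).hom
  have : IsIso m := by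
    have := d.isIso_tensorHom (𝟙 (F.obj X)) (d.μ Y Z).hom
    have := d.isIso_tensorHom (𝟙 (F.obj W)) ((𝟙 (F.obj X) ⊗ₘ (d.μ Y Z).hom) ≫ (d.μ X (Y ⊗ Z)).hom)
    infer_instance
  rw [← cancel_mono m]
  have hR : ((α_ (F.obj W ⊗ F.obj X) (F.obj Y) (F.obj Z)).hom ≫
      (α_ (F.obj W) (F.obj X) (F.obj Y ⊗ F.obj Z)).hom) ≫ m =
      n ≫ F.map ((α_ (W ⊗ X) Y Z).hom ≫ (α_ W X (Y ⊗ Z)).hom) := by
    calc _ = (α_ (F.obj W ⊗ F.obj X) (F.obj Y) (F.obj Z)).hom ≫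
          ((𝟙 (F.obj W ⊗ F.obj X) ⊗ₘ (d.μ Y Z).hom) ≫
            (α_ (F.obj W) (F.obj X) (F.obj (Y ⊗ Z))).hom ≫
            (𝟙 (F.obj W) ⊗ₘ (d.μ X (Y ⊗ Z)).hom) ≫ (d.μ W (X ⊗ (Y ⊗ Z))).hom) := by
            rw [← d.id_id, ← Category.assoc _ (α_ (F.obj W) (F.obj X) (F.obj (Y ⊗ Z))).hom, d.assoc_nat]
            simp only [Category.assoc, m]
            congr 2
            rw [← Category.assoc, d.comp, Category.id_comp]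
      _ = (α_ (F.obj W ⊗ F.obj X) (F.obj Y) (F.obj Z)).hom ≫
          (𝟙 (F.obj W ⊗ F.obj X) ⊗ₘ (d.μ Y Z).hom) ≫
            ((d.μ W X).hom ⊗ₘ 𝟙 (F.obj (Y ⊗ Z))) ≫ (d.μ (W ⊗ X) (Y ⊗ Z)).hom ≫
              F.map (α_ W X (Y ⊗ Z)).hom := by rw [d.hα]
      _ = (α_ (F.obj W ⊗ F.obj X) (F.obj Y) (F.obj Z)).hom ≫
          ((d.μ W X).hom ⊗ₘ (𝟙 (F.obj Y) ⊗ₘ 𝟙 (F.obj Z))) ≫
            (𝟙 (F.obj (W ⊗ X)) ⊗ₘ (d.μ Y Z).hom) ≫ (d.μ (W ⊗ X) (Y ⊗ Z)).hom ≫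
              F.map (α_ W X (Y ⊗ Z)).hom := by
            congr 1
            simp only [← Category.assoc, d.comp, Category.id_comp, Category.comp_id, d.id_id]
      _ = (((d.μ W X).hom ⊗ₘ 𝟙 (F.obj Y)) ⊗ₘ 𝟙 (F.obj Z)) ≫ ((d.μ (W ⊗ X) Y).hom ⊗ₘ 𝟙 (F.obj Z)) ≫
          (d.μ ((W ⊗ X) ⊗ Y) Z).hom ≫ F.map (α_ (W ⊗ X) Y Z).hom ≫ F.map (α_ W X (Y ⊗ Z)).hom := by
            rw [← Category.assoc, ← d.assoc_nat, Category.assoc]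
            congr 1
            have h := d.hα (W ⊗ X) Y Z
            rw [← reassoc_of% h]
      _ = _ := by
            simp only [n, Functor.map_comp, Category.assoc]
            rw [← Category.assoc, d.comp, Category.id_comp]
  rw [hR, ← MonoidalCategory.pentagon]
  calc _ = ((α_ (F.obj W) (F.obj X) (F.obj Y)).hom ⊗ₘ 𝟙 (F.obj Z)) ≫
        (α_ (F.obj W) (F.obj X ⊗ F.obj Y) (F.obj Z)).hom ≫
        (𝟙 (F.obj W) ⊗ₘ ((d.μ X Y).hom ⊗ₘ 𝟙 (F.obj Z))) ≫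
          (𝟙 (F.obj W) ⊗ₘ (d.μ (X ⊗ Y) Z).hom) ≫ (𝟙 (F.obj W) ⊗ₘ F.map (α_ X Y Z).hom) ≫
            (d.μ W (X ⊗ (Y ⊗ Z))).hom := by
          simp only [m, Category.assoc]
          congr 2
          simp only [← Category.assoc, d.comp, Category.id_comp]
          congr 2
          simpa only [Category.assoc] using (d.hα X Y Z).symm
    _ = ((α_ (F.obj W) (F.obj X) (F.obj Y)).hom ⊗ₘ 𝟙 (F.obj Z)) ≫
        ((𝟙 (F.obj W) ⊗ₘ (d.μ X Y).hom) ⊗ₘ 𝟙 (F.obj Z)) ≫ ((d.μ W (X ⊗ Y)).hom ⊗ₘ 𝟙 (F.obj Z)) ≫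
          (d.μ (W ⊗ (X ⊗ Y)) Z).hom ≫ F.map (α_ W (X ⊗ Y) Z).hom ≫ F.map (W ◁ (α_ X Y Z).hom) := by
          congr 1
          rw [← Category.assoc, ← d.assoc_nat, Category.assoc, ← F.map_id W, d.μ_nat]
          simp only [F.map_id, MonoidalCategory.id_tensorHom]
          rw [← reassoc_of% d.hα W (X ⊗ Y) Z]
    _ = _ := by
          simp only [n, ← Category.assoc, d.comp, Category.id_comp]
          simp only [Category.assoc]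
          rw [← d.hα W X Y, ← Category.assoc ((d.μ W X).hom ⊗ₘ 𝟙 (F.obj Y))]
          have e : ((((d.μ W X).hom ⊗ₘ 𝟙 (F.obj Y)) ≫ (d.μ (W ⊗ X) Y).hom) ≫ F.map (α_ W X Y).hom ⊗ₘ 𝟙 (F.obj Z)) =
              ((((d.μ W X).hom ⊗ₘ 𝟙 (F.obj Y)) ≫ (d.μ (W ⊗ X) Y).hom) ⊗ₘ 𝟙 (F.obj Z)) ≫
                (F.map (α_ W X Y).hom ⊗ₘ F.map (𝟙 Z)) := by
            rw [d.comp, F.map_id, Category.id_comp]
          rw [e, Category.assoc, reassoc_of% d.μ_nat, MonoidalCategory.tensorHom_id, Functor.map_comp,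
            Functor.map_comp]

lemma triangle_obj (X Y : C) :
    (α_ (F.obj X) (𝟙_ D) (F.obj Y)).hom ≫ (𝟙 (F.obj X) ⊗ₘ (λ_ (F.obj Y)).hom) =
      ((ρ_ (F.obj X)).hom ⊗ₘ 𝟙 (F.obj Y)) := by
  rw [← cancel_mono (d.μ X Y).hom, d.hl, d.hr]
  calc _ = (α_ (F.obj X) (𝟙_ D) (F.obj Y)).hom ≫
        (𝟙 (F.obj X) ⊗ₘ (d.unit.hom ⊗ₘ 𝟙 (F.obj Y))) ≫ (𝟙 (F.obj X) ⊗ₘ (d.μ (𝟙_ C) Y).hom) ≫
          (𝟙 (F.obj X) ⊗ₘ F.map (λ_ Y).hom) ≫ (d.μ X Y).hom := by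
          simp only [Category.assoc]
          congr 1
          simp only [← Category.assoc, d.comp, Category.id_comp]
    _ = ((𝟙 (F.obj X) ⊗ₘ d.unit.hom) ⊗ₘ 𝟙 (F.obj Y)) ≫ ((d.μ X (𝟙_ C)).hom ⊗ₘ 𝟙 (F.obj Y)) ≫
          (d.μ (X ⊗ 𝟙_ C) Y).hom ≫ F.map (α_ X (𝟙_ C) Y).hom ≫ F.map (X ◁ (λ_ Y).hom) := by
          rw [← Category.assoc, ← d.assoc_nat, Category.assoc, ← F.map_id X, d.μ_nat]
          simp only [F.map_id, MonoidalCategory.id_tensorHom]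
          rw [← reassoc_of% d.hα X (𝟙_ C) Y]
    _ = _ := by
          rw [← F.map_comp, MonoidalCategory.triangle, ← MonoidalCategory.tensorHom_id, ← d.μ_nat, F.map_id]
          simp only [← Category.assoc, d.comp, Category.id_comp]

variable [F.EssSurj]

lemma pentagon' (W X Y Z : D) :
    ((α_ W X Y).hom ⊗ₘ 𝟙 Z) ≫ (α_ W (X ⊗ Y) Z).hom ≫ (𝟙 W ⊗ₘ (α_ X Y Z).hom) =
      (α_ (W ⊗ X) Y Z).hom ≫ (α_ W X (Y ⊗ Z)).hom := by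
  let a := (F.objObjPreimageIso W).hom
  let b := (F.objObjPreimageIso X).hom
  let c := (F.objObjPreimageIso Y).hom
  let e := (F.objObjPreimageIso Z).hom
  have : IsIso (((a ⊗ₘ b) ⊗ₘ c) ⊗ₘ e) := by
    have := d.isIso_tensorHom a b
    have := d.isIso_tensorHom (a ⊗ₘ b) c
    exact d.isIso_tensorHom _ e
  rw [← cancel_epi (((a ⊗ₘ b) ⊗ₘ c) ⊗ₘ e)]
  have h1 : (((a ⊗ₘ b) ⊗ₘ c) ⊗ₘ e) ≫ (α_ (W ⊗ X) Y Z).hom ≫ (α_ W X (Y ⊗ Z)).hom =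
      ((α_ _ _ _).hom ≫ (α_ _ _ _).hom) ≫ (a ⊗ₘ (b ⊗ₘ (c ⊗ₘ e))) := by
    rw [← Category.assoc, d.assoc_nat, Category.assoc, d.assoc_nat, Category.assoc]
  have h2 : (((a ⊗ₘ b) ⊗ₘ c) ⊗ₘ e) ≫ ((α_ W X Y).hom ⊗ₘ 𝟙 Z) ≫ (α_ W (X ⊗ Y) Z).hom ≫
        (𝟙 W ⊗ₘ (α_ X Y Z).hom) =
      (((α_ _ _ _).hom ⊗ₘ 𝟙 _) ≫ (α_ _ _ _).hom ≫ (𝟙 _ ⊗ₘ (α_ _ _ _).hom)) ≫ (a ⊗ₘ (b ⊗ₘ (c ⊗ₘ e))) := by
    rw [← Category.assoc, d.comp, Category.comp_id, d.assoc_nat, ← Category.id_comp e, ← d.comp,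
      Category.id_comp, Category.assoc, ← Category.assoc _ (α_ W (X ⊗ Y) Z).hom, d.assoc_nat]
    simp only [Category.assoc, d.comp, Category.comp_id, Category.id_comp, d.assoc_nat]
  rw [h1, h2, d.pentagon_obj]

lemma triangle' (X Y : D) :
    (α_ X (𝟙_ D) Y).hom ≫ (𝟙 X ⊗ₘ (λ_ Y).hom) = ((ρ_ X).hom ⊗ₘ 𝟙 Y) := by
  let a := (F.objObjPreimageIso X).hom
  let b := (F.objObjPreimageIso Y).hom
  have : IsIso ((a ⊗ₘ 𝟙 (𝟙_ D)) ⊗ₘ b) := by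
    have := d.isIso_tensorHom a (𝟙 (𝟙_ D))
    exact d.isIso_tensorHom _ b
  rw [← cancel_epi ((a ⊗ₘ 𝟙 (𝟙_ D)) ⊗ₘ b), ← Category.assoc, d.assoc_nat, Category.assoc, d.comp, d.comp,
    Category.comp_id, Category.comp_id]
  rw [d.id_tensorHom (𝟙_ D) b, d.left_nat, d.tensorHom_id a, d.right_nat]
  conv_lhs => rw [← Category.id_comp a, ← d.comp, ← Category.assoc]
  rw [d.triangle_obj, d.comp, Category.id_comp]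

/-- the monoidal category -/
@[reducible] def monoidalCategory : MonoidalCategory D :=
  MonoidalCategory.ofTensorHom
    (id_tensorHom_id := d.id_id)
    (id_tensorHom := fun X _ _ f => d.id_tensorHom X f)
    (tensorHom_id := fun f Y => d.tensorHom_id f Y)
    (tensorHom_comp_tensorHom := fun f₁ f₂ g₁ g₂ => d.comp f₁ g₁ f₂ g₂)
    (associator_naturality := fun f₁ f₂ f₃ => d.assoc_nat f₁ f₂ f₃)
    (leftUnitor_naturality := fun f => by rw [d.id_tensorHom]; exact d.left_nat f)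
    (rightUnitor_naturality := fun f => by rw [d.tensorHom_id]; exact d.right_nat f)
    (pentagon := fun W X Y Z => d.pentagon' W X Y Z)
    (triangle := fun X Y => d.triangle' X Y)

end MonData

end

end Groth.Agent.DTenLib
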