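import Mathlib.CategoryTheory.Monoidal.Rigid.Basic
import Mathlib.CategoryTheory.Adjunction.Unique
import Mathlib.CategoryTheory.Yoneda

/-!
Evaluation maps into internal homs are isomorphisms for dualizable objects.
-/

set_option autoImplicit false
universe v u

namespace Groth.Agent.DTenLib

open CategoryTheory MonoidalCategory

variable {D : Type u} [Category.{v} D] [MonoidalCategory D] {G : D ⥤ D} {M : D}
  (adj : tensorRight M ⊣ G)

/-- the evaluation map `K ⊗ RHom(M, L) ⟶ RHom(M, K ⊗ L)` -/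
abbrev fEvalTen (K L : D) : K ⊗ G.obj L ⟶ G.obj (K ⊗ L) :=
  adj.homEquiv _ _ ((α_ K (G.obj L) M).hom ≫ (K ◁ adj.counit.app L))

lemma tensorRightAdjunction_counit (M' : D) [ExactPairing M M'] (X : D) :
    (tensorRightAdjunction M M').counit.app X = (α_ X M' M).hom ≫ (X ◁ ε_ M M') ≫ (ρ_ X).hom := by
  simp [tensorRightAdjunction, Adjunction.mkOfHomEquiv, tensorRightHomEquiv]

theorem isIso_fEvalTen_right (M' : D) [ExactPairing M M'] (K L : D) : IsIso (fEvalTen adj K L) := by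
  let u : G ≅ tensorRight M' := Adjunction.rightAdjointUniq adj (tensorRightAdjunction M M')
  have hu : ∀ X, (u.hom.app X ▷ M) ≫ (tensorRightAdjunction M M').counit.app X = adj.counit.app X :=
    fun X => Adjunction.rightAdjointUniq_hom_app_counit adj (tensorRightAdjunction M M') X
  have key : fEvalTen adj K L ≫ u.hom.app (K ⊗ L) = (K ◁ u.hom.app L) ≫ (α_ K L M').inv := by
    apply ((tensorRightAdjunction M M').homEquiv _ _).symm.injective
    rw [Adjunction.homEquiv_counit, Adjunction.homEquiv_counit, Functor.map_comp, Functor.map_comp,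
      Category.assoc, Category.assoc]
    dsimp only [Functor.flip_obj_map, curriedTensor_map_app]
    rw [hu]
    refine ((adj.homEquiv_counit _ _ _).symm.trans (Equiv.symm_apply_apply _ _)).trans ?_
    rw [← hu L, tensorRightAdjunction_counit, tensorRightAdjunction_counit]
    monoidal
  have : IsIso (fEvalTen adj K L ≫ u.hom.app (K ⊗ L)) := by
    rw [key]
    infer_instance
  exact IsIso.of_isIso_comp_right _ (u.hom.app (K ⊗ L))

theorem isIso_fEvalTen_left (K K' : D) [ExactPairing K K'] (L : D) : IsIso (fEvalTen adj K L) := by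
  refine isIso_of_yoneda_map_bijective _ fun T => ?_
  let E : (T ⟶ K ⊗ G.obj L) ≃ (T ⟶ G.obj (K ⊗ L)) :=
    (tensorLeftHomEquiv T K K' (G.obj L)).symm.trans ((adj.homEquiv _ _).symm.trans
      ((Iso.homFromEquiv (α_ K' T M)).trans ((tensorLeftHomEquiv (T ⊗ M) K K' L).trans (adj.homEquiv _ _))))
  have hE : (fun g : T ⟶ K ⊗ G.obj L => g ≫ fEvalTen adj K L) = E := by
    funext g
    obtain ⟨g', rfl⟩ := (tensorLeftHomEquiv T K K' (G.obj L)).surjective g
    simp only [E, Equiv.trans_apply, Equiv.symm_apply_apply]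
    rw [← Adjunction.homEquiv_naturality_left, Adjunction.homEquiv_counit]
    apply congrArg
    change (((λ_ T).inv ≫ η_ K K' ▷ T ≫ (α_ K K' T).hom ≫ K ◁ g') ▷ M) ≫ (α_ K (G.obj L) M).hom ≫
        K ◁ adj.counit.app L =
      (λ_ (T ⊗ M)).inv ≫ η_ K K' ▷ (T ⊗ M) ≫ (α_ K K' (T ⊗ M)).hom ≫
        K ◁ ((α_ K' T M).inv ≫ (g' ▷ M ≫ adj.counit.app L))
    monoidal
  rw [hE]
  exact E.bijective

section EvalHom

variable {R : D → D ⥤ D} (adjs : ∀ L : D, tensorRight L ⊣ R L) (σ : ∀ X Y : D, X ⊗ Y ≅ Y ⊗ X)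

/-- the evaluation map `RHom(L, M) ⊗ K ⟶ RHom(RHom(K, L), M)` -/
abbrev fEvalHom (K L M : D) : (R L).obj M ⊗ K ⟶ (R ((R K).obj L)).obj M :=
  (adjs ((R K).obj L)).homEquiv _ _ ((α_ ((R L).obj M) K ((R K).obj L)).hom ≫
    ((R L).obj M ◁ ((σ K ((R K).obj L)).hom ≫ (adjs K).counit.app L)) ≫ (adjs L).counit.app M)

theorem isIso_fEvalHom (hσ : ∀ (X : D) {Y Z : D} (f : Y ⟶ Z), X ◁ f ≫ (σ X Z).hom = (σ X Y).hom ≫ f ▷ X)
    (K' K L M : D) [ExactPairing K' K] : IsIso (fEvalHom adjs σ K L M) := by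
  let X := (R K).obj L
  let f : K ⊗ X ⟶ L := (σ K X).hom ≫ (adjs K).counit.app L
  let θ : X ⟶ K' ⊗ L := tensorLeftHomEquiv X K' K L f
  have hθ : IsIso θ := by
    refine isIso_of_yoneda_map_bijective _ fun T => ?_
    have h : (fun t : T ⟶ X => t ≫ θ) = fun t => ((((adjs K).homEquiv T L).symm.trans
        ((Iso.homFromEquiv (σ K T).symm).trans (tensorLeftHomEquiv T K' K L))) t) := by
      funext t
      simp only [Equiv.trans_apply, Iso.homFromEquiv_apply, Iso.symm_inv, Adjunction.homEquiv_counit, θ, f]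
      change t ≫ _ = tensorLeftHomEquiv T K' K L ((σ K T).hom ≫ t ▷ K ≫ (adjs K).counit.app L)
      rw [← Category.assoc (σ K T).hom, ← hσ K t]
      change t ≫ (λ_ X).inv ≫ η_ K' K ▷ X ≫ (α_ K' K X).hom ≫ K' ◁ _ =
        (λ_ T).inv ≫ η_ K' K ▷ T ≫ (α_ K' K T).hom ≫ K' ◁ _
      simp only [MonoidalCategory.whiskerLeft_comp, Category.assoc]
      rw [← associator_naturality_right_assoc, ← whisker_exchange_assoc,
        leftUnitor_inv_naturality_assoc]
    rw [h]
    exact Equiv.bijective _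
  refine isIso_of_yoneda_map_bijective _ fun T => ?_
  let E : (T ⟶ (R L).obj M ⊗ K) ≃ (T ⟶ (R X).obj M) :=
    (tensorRightHomEquiv T K' K ((R L).obj M)).symm.trans (((adjs L).homEquiv _ _).symm.trans
      ((Iso.homFromEquiv (α_ T K' L)).trans ((Iso.homFromEquiv (whiskerLeftIso T (asIso θ)).symm).trans
        ((adjs X).homEquiv _ _))))
  have hE : (fun g : T ⟶ (R L).obj M ⊗ K => g ≫ fEvalHom adjs σ K L M) = E := by
    funext g
    obtain ⟨g', rfl⟩ := (tensorRightHomEquiv T K' K ((R L).obj M)).surjective g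
    simp only [E, Equiv.trans_apply, Equiv.symm_apply_apply]
    rw [← Adjunction.homEquiv_naturality_left, Adjunction.homEquiv_counit]
    apply congrArg
    change (((ρ_ T).inv ≫ T ◁ η_ K' K ≫ (α_ T K' K).inv ≫ g' ▷ K) ▷ X) ≫ (α_ ((R L).obj M) K X).hom ≫
        ((R L).obj M ◁ f) ≫ (adjs L).counit.app M =
      (T ◁ ((λ_ X).inv ≫ η_ K' K ▷ X ≫ (α_ K' K X).hom ≫ K' ◁ f)) ≫ (α_ T K' L).inv ≫ g' ▷ L ≫
        (adjs L).counit.app M
    calc _ = ((((ρ_ T).inv ≫ T ◁ η_ K' K ≫ (α_ T K' K).inv) ▷ X) ≫ (α_ (T ⊗ K') K X).hom) ≫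
          (g' ▷ (K ⊗ X) ≫ (R L).obj M ◁ f) ≫ (adjs L).counit.app M := by monoidal
      _ = _ := by
        rw [← whisker_exchange]
        monoidal
  rw [hE]
  exact E.bijective

end EvalHom

end Groth.Agent.DTenLib
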