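import Groth.Agent.DTenLib.Split
import Groth.Prelude.Def_DTen6

/-!
Iterated changes of rings.
-/

set_option autoImplicit false
set_option linter.style.haveILetI false
universe u

namespace Groth.Agent.DTenLib

open CategoryTheory Limits MonoidalCategory

attribute [local instance] HasDerivedCategory.standard

variable {A B C : Type u} [CommRing A] [CommRing B] [CommRing C] (φ : A →+* B) (ψ : B →+* C)

lemma isKFlat_mixT {M : DRing.Cx A} {N : DRing.Cx B} (hM : DRing.IsKFlat A M) (hN : DRing.IsKFlat B N) :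
    DRing.IsKFlat B ((DTen.mixT φ).obj (M, N)) :=
  isKFlat_tensor (KFlat.isKFlat_extendScalars φ hM) hN

/-- all K-flat -/
def KFMix₃ : ObjectProperty (DRing.Cx A × (DRing.Cx B × DRing.Cx C)) :=
  fun X => DRing.IsKFlat A X.1 ∧ DRing.IsKFlat B X.2.1 ∧ DRing.IsKFlat C X.2.2

lemma quasiIso_mixT_map {X Y : DRing.Cx A × DRing.Cx B} (f : X ⟶ Y) (hX : KFMix X) (hY : KFMix Y)
    (hf : DTen.qisMix A B f) : QuasiIso ((DTen.mixT φ).map f) := by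
  have : QuasiIso f.1 := hf.1
  have : QuasiIso f.2 := hf.2
  have := quasiIso_ext φ f.1 hX.1 hY.1
  have := DRingKP.quasiIso_whiskerRight (K := X.2) hX.2 ((DTen.extCx φ).map f.1)
  have := DRingKP.quasiIso_whiskerLeft f.2 hX.2 hY.2 ((DTen.extCx φ).obj Y.1)
  change QuasiIso ((DTen.extCx φ).map f.1 ▷ X.2 ≫ (DTen.extCx φ).obj Y.1 ◁ f.2)
  infer_instance

/-- resolutions of mixed triples -/
noncomputable def leftResMix₃ : KFlat.LeftRes (DTen.qisMix₃ A B C) (DTen.mix₃ φ ψ) KFMix₃ where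
  ρ := res.prod (res.prod res)
  ψ :=
    { app := fun X => Prod.mkHom (resψ.app X.1) (Prod.mkHom (resψ.app X.2.1) (resψ.app X.2.2))
      naturality := fun X Y f => Prod.ext (resψ.naturality f.1)
        (Prod.ext (resψ.naturality f.2.1) (resψ.naturality f.2.2)) }
  mem X := ⟨isKFlat_res X.1, isKFlat_res X.2.1, isKFlat_res X.2.2⟩
  weq X := ⟨qis_resψ X.1, qis_resψ X.2.1, qis_resψ X.2.2⟩
  isIso_map {X Y} f hX hY hf := by
    have h := quasiIso_mixT_map φ (X := (X.1, X.2.1)) (Y := (Y.1, Y.2.1)) (Prod.mkHom f.1 f.2.1)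
      ⟨hX.1, hX.2.1⟩ ⟨hY.1, hY.2.1⟩ ⟨hf.1, hf.2.1⟩
    have : QuasiIso ((DTen.mixT ψ).map (Prod.mkHom ((DTen.mixT φ).map
        (Prod.mkHom f.1 f.2.1 : ((X.1, X.2.1) : DRing.Cx A × DRing.Cx B) ⟶ (Y.1, Y.2.1))) f.2.2)) :=
      quasiIso_mixT_map ψ _ ⟨isKFlat_mixT φ hX.1 hX.2.1, hX.2.2⟩ ⟨isKFlat_mixT φ hY.1 hY.2.1, hY.2.2⟩
        ⟨h, hf.2.2⟩
    exact Localization.inverts DerivedCategory.Q (DTen.qis C) _ this

theorem isIso_εMix₃ [DTen.HasLTenMix₃ φ ψ] {M : DRing.Cx A} {N : DRing.Cx B} {K : DRing.Cx C}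
    (hM : DRing.IsKFlat A M) (hN : DRing.IsKFlat B N) (hK : DRing.IsKFlat C K) :
    IsIso ((DTen.εMix₃ φ ψ).app (M, (N, K))) :=
  (leftResMix₃ φ ψ).isIso_app (DTen.LTenMix₃ φ ψ) (DTen.εMix₃ φ ψ) (X := (M, (N, K))) ⟨hM, hN, hK⟩

theorem isIso_legs [DTen.HasLTenMix φ] [DTen.HasLTenMix ψ] [DTen.HasLTenMix (ψ.comp φ)]
    [DTen.HasLTenMix₃ φ ψ] (X : Dual.D A × (Dual.D B × Dual.D C)) :
    IsIso ((DTen.leg₃L φ ψ).app X) ∧ IsIso ((DTen.leg₃R φ ψ).app X) := by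
  obtain ⟨M, hM, ⟨eM⟩⟩ := exists_kFlat_rep X.1
  obtain ⟨N, hN, ⟨eN⟩⟩ := exists_kFlat_rep X.2.1
  obtain ⟨K, hK, ⟨eK⟩⟩ := exists_kFlat_rep X.2.2
  constructor
  · refine (NatTrans.isIso_app_iff_of_iso (DTen.leg₃L φ ψ) (Iso.prod eM (Iso.prod eN eK))).1 ?_
    refine isIso_of_comp_eq (DTen.leg₃L_fac φ ψ (M, (N, K))) (isIso_εMix₃ φ ψ hM hN hK) ?_
    have := isIso_εMix φ hM hN
    have h : IsIso (Prod.mkHom ((DTen.εMix φ).app (M, N)) (𝟙 (DerivedCategory.Q.obj K))) :=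
      (Iso.prod (asIso ((DTen.εMix φ).app (M, N))) (Iso.refl _)).isIso_hom
    exact IsIso.comp_isIso' (@Functor.map_isIso _ _ _ _ _ _ (DTen.LTenMix ψ) _ h)
      (isIso_εMix ψ (isKFlat_mixT φ hM hN) hK)
  · refine (NatTrans.isIso_app_iff_of_iso (DTen.leg₃R φ ψ) (Iso.prod eM (Iso.prod eN eK))).1 ?_
    refine isIso_of_comp_eq (DTen.leg₃R_fac φ ψ (M, (N, K))) (isIso_εMix₃ φ ψ hM hN hK) ?_
    have := isIso_εMix ψ hN hK
    have h : IsIso (Prod.mkHom (𝟙 (DerivedCategory.Q.obj M)) ((DTen.εMix ψ).app (N, K))) :=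
      (Iso.prod (Iso.refl _) (asIso ((DTen.εMix ψ).app (N, K)))).isIso_hom
    exact IsIso.comp_isIso' (@Functor.map_isIso _ _ _ _ _ _ (DTen.LTenMix (ψ.comp φ)) _ h)
      (IsIso.comp_isIso' (isIso_εMix (ψ.comp φ) hM (isKFlat_mixT ψ hN hK)) inferInstance)

end Groth.Agent.DTenLib
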