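import Groth.Agent.DTenLib.Symm
import Groth.Agent.DTenLib.EssImage
import Mathlib.CategoryTheory.Monoidal.Subcategory

/-!
`⊗^L` is a monoidal structure on `D(A)`.
-/

set_option autoImplicit false
set_option linter.style.haveILetI false
universe u

namespace Groth.Agent.DTenLib

open CategoryTheory Limits MonoidalCategory

attribute [local instance] HasDerivedCategory.standard

variable {A : Type u} [CommRing A]

/-- K-flat complexes -/
def kf (A : Type u) [CommRing A] : ObjectProperty (DRing.Cx A) := fun K => DRing.IsKFlat A K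

lemma isKFlat_unit : DRing.IsKFlat A (𝟙_ (DRing.Cx A)) := fun M hM i =>
  (hM i).of_iso ((HomologicalComplex.homologyFunctor _ _ i).mapIso (ρ_ M))

instance : (kf A).IsMonoidal where
  prop_unit := isKFlat_unit
  prop_tensor _ _ h₁ h₂ := isKFlat_tensor h₁ h₂

/-- K-flat complexes to `D(A)` -/
noncomputable abbrev kfQ (A : Type u) [CommRing A] : (kf A).FullSubcategory ⥤ Dual.D A :=
  (kf A).ι ⋙ DerivedCategory.Q

instance : (kfQ A).EssSurj where
  mem_essImage X := by
    obtain ⟨K, hK, ⟨e⟩⟩ := exists_kFlat_rep X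
    exact ⟨⟨K, hK⟩, ⟨e⟩⟩

variable [DTen.HasLTen A] [DTen.HasLTen₃ A] [DTen.IsSymMonoidal A]

/-- the operations -/
@[reducible] noncomputable def monStruct : MonoidalCategoryStruct (Dual.D A) where
  tensorObj X Y := (DTen.LTen₂ A).obj (X, Y)
  whiskerLeft X {_ _} f := (DTen.LTen₂ A).map (Prod.mkHom (𝟙 X) f)
  whiskerRight f Y := (DTen.LTen₂ A).map (Prod.mkHom f (𝟙 Y))
  tensorHom f g := (DTen.LTen₂ A).map (Prod.mkHom f g)
  tensorUnit := DTen.unit A
  associator a b c := DTen.associator a b c
  leftUnitor X := DTen.leftUnitor X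
  rightUnitor X := DTen.rightUnitor X

omit [DTen.HasLTen₃ A] [DTen.IsSymMonoidal A] in
lemma map₂_comp {X Y Z X' Y' Z' : Dual.D A} (f : X ⟶ Y) (g : Y ⟶ Z) (f' : X' ⟶ Y') (g' : Y' ⟶ Z') :
    (DTen.LTen₂ A).map (Prod.mkHom f f') ≫ (DTen.LTen₂ A).map (Prod.mkHom g g') =
      (DTen.LTen₂ A).map (Prod.mkHom (f ≫ g) (f' ≫ g')) := by
  rw [← Functor.map_comp]
  rfl

lemma associator_natural {a b c a' b' c' : Dual.D A} (f : a ⟶ a') (g : b ⟶ b') (h : c ⟶ c') :
    (DTen.LTen₂ A).map (Prod.mkHom ((DTen.LTen₂ A).map (Prod.mkHom f g)) h) ≫ (DTen.associator a' b' c').hom =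
      (DTen.associator a b c).hom ≫
        (DTen.LTen₂ A).map (Prod.mkHom f ((DTen.LTen₂ A).map (Prod.mkHom g h))) := by
  let φ : ((a, (b, c)) : Dual.D A × (Dual.D A × Dual.D A)) ⟶ (a', (b', c')) :=
    Prod.mkHom f (Prod.mkHom g h)
  have hL := (DTen.assocL A).naturality φ
  have hR := (DTen.assocR A).naturality φ
  rw [← cancel_mono ((DTen.assocR A).app (a', (b', c'))), Category.assoc, Category.assoc,
    DTen.associator_hom_assocR]
  refine hL.trans ?_
  rw [← DTen.associator_hom_assocR a b c]
  exact (Category.assoc _ _ _).trans (congrArg _ hR.symm)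

/-- the counit on K-flat complexes -/
noncomputable def μIso (K L : (kf A).FullSubcategory) :
    (DTen.LTen₂ A).obj ((kfQ A).obj K, (kfQ A).obj L) ≅ (kfQ A).obj (K ⊗ L) :=
  haveI := isIso_ε_right K.obj (L := L.obj) L.property
  asIso ((DTen.ε A).app (K.obj, L.obj))

/-- the compatibility data -/
noncomputable def monData : @MonData _ _ _ _ _ (monStruct (A := A)) (kfQ A) :=
  letI := monStruct (A := A)
  { id_tensorHom := fun _ _ _ _ => rfl
    tensorHom_id := fun _ _ => rfl
    id_id := fun X Y => (DTen.LTen₂ A).map_id (X, Y)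
    comp := fun f g f' g' => map₂_comp f g f' g'
    assoc_nat := fun f g h => associator_natural f g h
    left_nat := fun f => (DTen.unitL A).naturality f
    right_nat := fun f => (DTen.unitR A).naturality f
    μ := μIso
    μ_nat := fun {X Y X' Y'} f g => by
      have h := (DTen.ε A).naturality (Prod.mkHom f.hom g.hom)
      refine h.trans ?_
      change (DTen.ε A).app (X.obj, Y.obj) ≫ DerivedCategory.Q.map (f.hom ▷ Y.obj ≫ X'.obj ◁ g.hom) = _
      rw [← MonoidalCategory.tensorHom_def]
      rfl
    unit := Iso.refl _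
    hα := fun X Y Z => by
      have h := congrArg (· ≫ (DTen.ε₃ A).app (X.obj, (Y.obj, Z.obj))) (DTen.associator_hom_assocR
        (DerivedCategory.Q.obj X.obj) (DerivedCategory.Q.obj Y.obj) (DerivedCategory.Q.obj Z.obj))
      simp only [Category.assoc] at h
      exact (((congrArg ((DTen.associator _ _ _).hom ≫ ·)
        (DTen.assocR_fac A (X.obj, (Y.obj, Z.obj)))).symm.trans h).trans
          (DTen.assocL_fac A (X.obj, (Y.obj, Z.obj)))).symm
    hl := fun X => by
      refine (DTen.unitL_app A X.obj).trans ?_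
      exact ((congrArg (· ≫ _) ((DTen.LTen₂ A).map_id _)).trans (Category.id_comp _)).symm
    hr := fun X => by
      refine (DTen.unitR_app A X.obj).trans ?_
      exact ((congrArg (· ≫ _) ((DTen.LTen₂ A).map_id _)).trans (Category.id_comp _)).symm }

/-- `⊗^L` on `D(A)` -/
@[reducible] noncomputable def monoidalD : MonoidalCategory (Dual.D A) :=
  @MonData.monoidalCategory _ _ _ _ _ (monStruct (A := A)) _ monData _

attribute [local instance] monoidalD

/-- K-flat complexes to `D(A)`, monoidally -/
@[reducible] noncomputable def kfQMonoidal : (kfQ A).Monoidal :=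
  Functor.CoreMonoidal.toMonoidal
    { εIso := Iso.refl _
      μIso := μIso
      μIso_hom_natural_left := fun {X Y} f Z => by
        have h := (monData (A := A)).μ_nat f (𝟙 Z)
        rw [CategoryTheory.Functor.map_id, MonoidalCategory.tensorHom_id f Z] at h
        exact h
      μIso_hom_natural_right := fun {X Y} Z f => by
        have h := (monData (A := A)).μ_nat (𝟙 Z) f
        rw [CategoryTheory.Functor.map_id, MonoidalCategory.id_tensorHom Z f] at h
        exact h
      associativity := fun X Y Z => (monData (A := A)).hα X Y Z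
      left_unitality := fun X => (monData (A := A)).hl X
      right_unitality := fun X => (monData (A := A)).hr X }

end Groth.Agent.DTenLib
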