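import Groth.Agent.DTenLib.DualCx
import Groth.Agent.DRingKP.DualPair

/-!
Dualizable complexes are bounded complexes of finite projective modules.
-/

set_option autoImplicit false
set_option linter.style.haveILetI false
universe u

namespace Groth.Agent.DTenLib

open CategoryTheory Limits MonoidalCategory HomologicalComplex TensorProduct PreDual

variable {A : Type u} [CommRing A]

lemma exists_sum_tensor (M N : DRing.Cx A) (n : ℤ) (z : (M ⊗ N).X n) :
    ∃ (k : ℕ) (p : Fin k → ℤ) (m : ∀ i, M.X (p i)) (y : ∀ i, N.X (n - p i)),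
      z = ∑ i, (ιTensorObj M N (p i) (n - p i) n (add_sub_cancel _ _)).hom (m i ⊗ₜ[A] y i) := by
  classical
  let S : Submodule A ((M ⊗ N).X n) := Submodule.span A
    (Set.range fun t : Σ p : ℤ, M.X p × N.X (n - p) =>
      (ιTensorObj M N t.1 (n - t.1) n (add_sub_cancel _ _)).hom (t.2.1 ⊗ₜ[A] t.2.2))
  have hS : ModuleCat.ofHom S.mkQ = 0 := by
    refine HomologicalComplex.mapBifunctor.hom_ext fun p q hpq => ?_
    obtain rfl : q = n - p := by simp at hpq; lia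
    refine ModuleCat.MonoidalCategory.tensor_ext fun a b => ?_
    exact (Submodule.Quotient.mk_eq_zero S).2 (Submodule.subset_span ⟨⟨p, a, b⟩, rfl⟩)
  have hz : z ∈ S := (Submodule.Quotient.mk_eq_zero S).1 (LinearMap.congr_fun (congrArg ModuleCat.Hom.hom hS) z)
  obtain ⟨c, hc⟩ := Finsupp.mem_span_range_iff_exists_finsupp.1 hz
  refine ⟨c.support.card, fun i => (c.support.equivFin.symm i).1.1,
    fun i => c (c.support.equivFin.symm i).1 • (c.support.equivFin.symm i).1.2.1,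
    fun i => (c.support.equivFin.symm i).1.2.2, ?_⟩
  rw [← hc, Finsupp.sum, ← Finset.sum_attach c.support]
  have key : ∀ (x x' : c.support), x' = x →
      c x.1 • (ιTensorObj M N x.1.1 (n - x.1.1) n (add_sub_cancel _ _)).hom (x.1.2.1 ⊗ₜ[A] x.1.2.2) =
        (ιTensorObj M N x'.1.1 (n - x'.1.1) n (add_sub_cancel _ _)).hom ((c x'.1 • x'.1.2.1) ⊗ₜ[A] x'.1.2.2) := by
    rintro x _ rfl
    rw [← TensorProduct.smul_tmul']
    exact (LinearMap.map_smul _ _ _).symm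
  exact Fintype.sum_equiv c.support.equivFin _ _ fun x => key x _ (c.support.equivFin.symm_apply_apply x)

variable (M N : DRing.Cx A) [ExactPairing M N]

/-- the pairing on a summand -/
noncomputable def pairEv (q p : ℤ) (h : q + p = 0) : N.X q ⊗ M.X p ⟶ 𝟙_ (ModuleCat.{u} A) :=
  ιTensorObj N M q p 0 h ≫ (ε_ M N).f 0 ≫ (singleObjXSelf (ComplexShape.up ℤ) 0 (𝟙_ (ModuleCat.{u} A))).hom

/-- the coevaluation element -/
noncomputable def pairCo : (M ⊗ N).X 0 :=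
  ((singleObjXSelf (ComplexShape.up ℤ) 0 (𝟙_ (ModuleCat.{u} A))).inv ≫ (η_ M N).f 0).hom (1 : A)

/-- pairing on a summand, extended by zero -/
noncomputable def evAt {n : ℤ} (p : ℤ) (y : N.X (0 - p)) : M.X n →ₗ[A] A :=
  if h : (0 - p) + n = 0 then (pairEv M N (0 - p) n h).hom ∘ₗ TensorProduct.mk A (N.X (0 - p)) (M.X n) y
  else 0

/-- pairing on a summand, extended by zero -/
noncomputable def evAtR {n : ℤ} (p : ℤ) (m : M.X p) : N.X n →ₗ[A] A :=
  if h : n + p = 0 then (pairEv M N n p h).hom ∘ₗ (TensorProduct.mk A (N.X n) (M.X p)).flip m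
  else 0

lemma term_left (q n : ℤ) (hq : q = n) (r : ℤ) (hr : r = 0) (g : M.X q) (g' : N.X (0 - q)) (x : M.X n)
    (h₁ : (0 - q) + n = r) (h₂ : q + r = n) :
    ((α_ (M.X q) (N.X (0 - q)) (M.X n)).hom ≫
      (M.X q ◁ (ιTensorObj N M (0 - q) n r h₁ ≫ (ε_ M N).f r)) ≫
      ιTensorObj M (tensorUnit (ModuleCat.{u} A) (ComplexShape.up ℤ)) q r n h₂ ≫ (ρ_ M).hom.f n).hom
      ((g ⊗ₜ[A] g') ⊗ₜ[A] x) = evAt M N q g' x • (hq ▸ g : M.X n) := by
  subst hq hr
  have hρ : (M.X q ◁ (singleObjXSelf (ComplexShape.up ℤ) 0 (𝟙_ (ModuleCat.{u} A))).inv) ≫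
      ιTensorObj M (tensorUnit (ModuleCat.{u} A) (ComplexShape.up ℤ)) q 0 q h₂ ≫ (ρ_ M).hom.f q =
      (ρ_ (M.X q)).hom := by
    rw [← cancel_epi (ρ_ (M.X q)).inv, Iso.inv_hom_id]
    have e : (ρ_ M).inv.f q ≫ (ρ_ M).hom.f q = 𝟙 _ := by
      rw [← HomologicalComplex.comp_f, Iso.inv_hom_id]
      rfl
    rw [rightUnitor_inv_f] at e
    simpa using e
  have hev : ιTensorObj N M (0 - q) q 0 h₁ ≫ (ε_ M N).f 0 =
      pairEv M N (0 - q) q h₁ ≫ (singleObjXSelf (ComplexShape.up ℤ) 0 (𝟙_ (ModuleCat.{u} A))).inv := by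
    simp [pairEv]
  rw [hev, MonoidalCategory.whiskerLeft_comp, Category.assoc]
  erw [hρ]
  rw [evAt, dif_pos h₁]
  rfl

lemma finite_left (n : ℤ) {k : ℕ} (p : Fin k → ℤ) (m : ∀ i, M.X (p i)) (y : ∀ i, N.X (0 - p i))
    (hz : pairCo M N = ∑ i, (ιTensorObj M N (p i) (0 - p i) 0 (add_sub_cancel _ _)).hom (m i ⊗ₜ[A] y i))
    (x : M.X n) :
    x = ∑ i, if h : p i = n then evAt M N (p i) (y i) x • (h ▸ m i : M.X n) else 0 := by
  have h := congrArg (fun f : (𝟙_ (DRing.Cx A) ⊗ M) ⟶ (M ⊗ 𝟙_ (DRing.Cx A)) => (λ_ M).inv ≫ f ≫ (ρ_ M).hom)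
    (ExactPairing.evaluation_coevaluation M N)
  simp only [Category.assoc, Iso.inv_hom_id_assoc, Iso.inv_hom_id] at h
  have hx := LinearMap.congr_fun (congrArg ModuleCat.Hom.hom (congrArg (fun f : M ⟶ M => f.f n) h)) x
  refine hx.symm.trans ?_
  have hb : ((λ_ M).inv.f n ≫ (η_ M N ▷ M).f n).hom x =
      ∑ i, (((ιTensorObj M N (p i) (0 - p i) 0 (add_sub_cancel _ _)) ▷ M.X n) ≫
        ιTensorObj (M ⊗ N) M 0 n n (zero_add n)).hom ((m i ⊗ₜ[A] y i) ⊗ₜ[A] x) := by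
    rw [leftUnitor_inv_f]
    simp only [Category.assoc]
    erw [ι_whiskerRight_f (η_ M N) M 0 n n (zero_add n)]
    rw [← comp_whiskerRight_assoc]
    change (ιTensorObj (M ⊗ N) M 0 n n (zero_add n)).hom (pairCo M N ⊗ₜ[A] x) = _
    rw [hz, TensorProduct.sum_tmul, map_sum]
    rfl
  change ((α_ M N M).hom.f n ≫ (M ◁ ε_ M N).f n ≫ (ρ_ M).hom.f n).hom
    (((λ_ M).inv.f n ≫ (η_ M N ▷ M).f n).hom x) = _
  rw [hb, map_sum]
  refine Finset.sum_congr rfl fun i _ => ?_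
  change (((ιTensorObj M N (p i) (0 - p i) 0 (add_sub_cancel _ _)) ▷ M.X n) ≫
    ιTensorObj (M ⊗ N) M 0 n n (zero_add n) ≫ (α_ M N M).hom.f n ≫ (M ◁ ε_ M N).f n ≫
      (ρ_ M).hom.f n).hom ((m i ⊗ₜ[A] y i) ⊗ₜ[A] x) = _
  rw [ι_assoc_hom_assoc M N M (p i) (0 - p i) n n 0 (n - p i) (add_sub_cancel _ _) (zero_add n)
    (by lia) (by lia)]
  rw [ι_whiskerLeft_f_assoc M (ε_ M N) (p i) (n - p i) n (by lia), ← whiskerLeft_comp_assoc]
  by_cases hp : p i = n
  · rw [dif_pos hp]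
    exact term_left M N (p i) n hp (n - p i) (by lia) (m i) (y i) x _ _
  · rw [dif_neg hp]
    have : (ε_ M N).f (n - p i) = 0 :=
      (isZero_single_obj_X (ComplexShape.up ℤ) 0 (𝟙_ (ModuleCat.{u} A)) (n - p i) (by lia)).eq_of_tgt _ _
    rw [this]
    simp

lemma term_right (q n : ℤ) (hq : 0 - q = n) (r : ℤ) (hr : r = 0) (g : M.X q) (g' : N.X (0 - q)) (y : N.X n)
    (h₁ : n + q = r) (h₂ : r + (0 - q) = n) :
    ((α_ (N.X n) (M.X q) (N.X (0 - q))).inv ≫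
      ((ιTensorObj N M n q r h₁ ≫ (ε_ M N).f r) ▷ N.X (0 - q)) ≫
      ιTensorObj (tensorUnit (ModuleCat.{u} A) (ComplexShape.up ℤ)) N r (0 - q) n h₂ ≫ (λ_ N).hom.f n).hom
      (y ⊗ₜ[A] (g ⊗ₜ[A] g')) = evAtR M N q g y • (hq ▸ g' : N.X n) := by
  subst hq hr
  have hl : ((singleObjXSelf (ComplexShape.up ℤ) 0 (𝟙_ (ModuleCat.{u} A))).inv ▷ N.X (0 - q)) ≫
      ιTensorObj (tensorUnit (ModuleCat.{u} A) (ComplexShape.up ℤ)) N 0 (0 - q) (0 - q) h₂ ≫
      (λ_ N).hom.f (0 - q) = (λ_ (N.X (0 - q))).hom := by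
    rw [← cancel_epi (λ_ (N.X (0 - q))).inv, Iso.inv_hom_id]
    have e : (λ_ N).inv.f (0 - q) ≫ (λ_ N).hom.f (0 - q) = 𝟙 _ := by
      rw [← HomologicalComplex.comp_f, Iso.inv_hom_id]
      rfl
    rw [leftUnitor_inv_f] at e
    simpa using e
  have hev : ιTensorObj N M (0 - q) q 0 h₁ ≫ (ε_ M N).f 0 =
      pairEv M N (0 - q) q h₁ ≫ (singleObjXSelf (ComplexShape.up ℤ) 0 (𝟙_ (ModuleCat.{u} A))).inv := by
    simp [pairEv]
  rw [hev, comp_whiskerRight, Category.assoc]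
  erw [hl]
  rw [evAtR, dif_pos h₁]
  rfl

lemma finite_right (n : ℤ) {k : ℕ} (p : Fin k → ℤ) (m : ∀ i, M.X (p i)) (y : ∀ i, N.X (0 - p i))
    (hz : pairCo M N = ∑ i, (ιTensorObj M N (p i) (0 - p i) 0 (add_sub_cancel _ _)).hom (m i ⊗ₜ[A] y i))
    (x : N.X n) :
    x = ∑ i, if h : 0 - p i = n then evAtR M N (p i) (m i) x • (h ▸ y i : N.X n) else 0 := by
  have h := congrArg (fun f : (N ⊗ 𝟙_ (DRing.Cx A)) ⟶ (𝟙_ (DRing.Cx A) ⊗ N) => (ρ_ N).inv ≫ f ≫ (λ_ N).hom)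
    (ExactPairing.coevaluation_evaluation M N)
  simp only [Category.assoc, Iso.inv_hom_id_assoc, Iso.inv_hom_id] at h
  have hx := LinearMap.congr_fun (congrArg ModuleCat.Hom.hom (congrArg (fun f : N ⟶ N => f.f n) h)) x
  refine hx.symm.trans ?_
  have hb : ((ρ_ N).inv.f n ≫ (N ◁ η_ M N).f n).hom x =
      ∑ i, ((N.X n ◁ ιTensorObj M N (p i) (0 - p i) 0 (add_sub_cancel _ _)) ≫
        ιTensorObj N (M ⊗ N) n 0 n (add_zero n)).hom (x ⊗ₜ[A] (m i ⊗ₜ[A] y i)) := by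
    rw [rightUnitor_inv_f]
    simp only [Category.assoc]
    erw [ι_whiskerLeft_f N (η_ M N) n 0 n (add_zero n)]
    rw [← whiskerLeft_comp_assoc]
    change (ιTensorObj N (M ⊗ N) n 0 n (add_zero n)).hom (x ⊗ₜ[A] pairCo M N) = _
    rw [hz, TensorProduct.tmul_sum, map_sum]
    rfl
  change ((α_ N M N).inv.f n ≫ (ε_ M N ▷ N).f n ≫ (λ_ N).hom.f n).hom
    (((ρ_ N).inv.f n ≫ (N ◁ η_ M N).f n).hom x) = _
  rw [hb, map_sum]
  refine Finset.sum_congr rfl fun i _ => ?_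
  change ((N.X n ◁ ιTensorObj M N (p i) (0 - p i) 0 (add_sub_cancel _ _)) ≫
    ιTensorObj N (M ⊗ N) n 0 n (add_zero n) ≫ (α_ N M N).inv.f n ≫ (ε_ M N ▷ N).f n ≫
      (λ_ N).hom.f n).hom (x ⊗ₜ[A] (m i ⊗ₜ[A] y i)) = _
  rw [← Category.assoc (f := N.X n ◁ _)]
  rw [Category.assoc, reassoc_of% (ι_assoc_inv N M N n (p i) (0 - p i) n (n + p i) 0 rfl (by lia)
    (add_sub_cancel _ _) (add_zero n))]
  rw [← Category.assoc (f := ιTensorObj (N ⊗ M) N (n + p i) (0 - p i) n _),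
    ι_whiskerRight_f (ε_ M N) N (n + p i) (0 - p i) n (by lia), Category.assoc, ← comp_whiskerRight_assoc]
  by_cases hp : 0 - p i = n
  · rw [dif_pos hp]
    exact term_right M N (p i) n hp (n + p i) (by lia) (m i) (y i) x _ _
  · rw [dif_neg hp]
    have : (ε_ M N).f (n + p i) = 0 :=
      (isZero_single_obj_X (ComplexShape.up ℤ) 0 (𝟙_ (ModuleCat.{u} A)) (n + p i) (by lia)).eq_of_tgt _ _
    rw [this]
    simp

lemma bounded_finite_projective :
    (∃ a b : ℤ, DRing.VanishesOutside M a b) ∧ (∃ a b : ℤ, DRing.VanishesOutside N a b) ∧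
      DRing.TermwiseFiniteProjective M ∧ DRing.TermwiseFiniteProjective N := by
  classical
  obtain ⟨k, p, m, y, hz⟩ := exists_sum_tensor M N 0 (pairCo M N)
  obtain ⟨B, hB⟩ : ∃ B : ℤ, ∀ i, |p i| ≤ B :=
    ⟨∑ i, |p i|, fun i => Finset.single_le_sum (fun j _ => abs_nonneg (p j)) (Finset.mem_univ i)⟩
  refine ⟨⟨-B, B, fun n hn => ?_⟩, ⟨-B, B, fun n hn => ?_⟩, fun n => ?_, fun n => ?_⟩
  · have := ModuleCat.subsingleton_of_isZero (M := M.X n)
    rw [IsZero.iff_id_eq_zero]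
    refine ModuleCat.hom_ext (LinearMap.ext fun x => ?_)
    change x = 0
    rw [finite_left M N n p m y hz x]
    refine Finset.sum_eq_zero fun i _ => dif_neg ?_
    have := abs_le.1 (hB i)
    omega
  · rw [IsZero.iff_id_eq_zero]
    refine ModuleCat.hom_ext (LinearMap.ext fun x => ?_)
    change x = 0
    rw [finite_right M N n p m y hz x]
    refine Finset.sum_eq_zero fun i _ => dif_neg ?_
    have := abs_le.1 (hB i)
    omega
  · exact DRingKP.finite_projective_of_repr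
      (fun i => if h : p i = n then (h ▸ m i : M.X n) else 0)
      (LinearMap.pi fun i => evAt M N (p i) (y i)) fun x =>
        Eq.trans (Finset.sum_congr rfl fun i _ => by
          simp only [LinearMap.pi_apply]
          split <;> simp) (finite_left M N n p m y hz x).symm
  · exact DRingKP.finite_projective_of_repr
      (fun i => if h : 0 - p i = n then (h ▸ y i : N.X n) else 0)
      (LinearMap.pi fun i => evAtR M N (p i) (m i)) fun x =>
        Eq.trans (Finset.sum_congr rfl fun i _ => by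
          simp only [LinearMap.pi_apply]
          split <;> simp) (finite_right M N n p m y hz x).symm

end Groth.Agent.DTenLib
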