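import Groth.Agent.DTenLib.Monoidal
import Groth.Agent.DTenLib.DualMod
import Groth.Agent.DTenLib.BraidCx
import Mathlib.CategoryTheory.Monoidal.Rigid.Braided
import Groth.Agent.DTenLib.Formal
import Mathlib.CategoryTheory.Monoidal.Rigid.OfEquivalence

/-!
Perfect complexes are dualizable in `D(A)`.
-/

set_option autoImplicit false
set_option linter.style.haveILetI false
universe u v₁ v₂ u₁ u₂

namespace Groth.Agent.DTenLib

open CategoryTheory Limits MonoidalCategory

attribute [local instance] HasDerivedCategory.standard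

section

open Functor.LaxMonoidal Functor.OplaxMonoidal

variable {C : Type u₁} [Category.{v₁} C] [MonoidalCategory C] {D : Type u₂} [Category.{v₂} D]
  [MonoidalCategory D] (G : C ⥤ D) [G.Monoidal]

/-- monoidal functors preserve exact pairings -/
@[reducible] noncomputable def mapExactPairing (X Y : C) [ExactPairing X Y] : ExactPairing (G.obj X) (G.obj Y) where
  coevaluation' := ε G ≫ G.map (η_ X Y) ≫ δ G X Y
  evaluation' := μ G Y X ≫ G.map (ε_ X Y) ≫ η G
  coevaluation_evaluation' := by
    have h := congrArg G.map (ExactPairing.coevaluation_evaluation X Y)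
    simp only [Functor.map_comp, Functor.Monoidal.map_whiskerLeft, Functor.Monoidal.map_whiskerRight,
      Functor.Monoidal.map_associator_inv, Functor.Monoidal.map_rightUnitor, Functor.Monoidal.map_leftUnitor_inv,
      Category.assoc, Functor.Monoidal.μ_δ_assoc] at h
    have h2 := congrArg (fun f => G.obj Y ◁ ε G ≫ μ G Y (𝟙_ C) ≫ f ≫ δ G (𝟙_ C) Y ≫ η G ▷ G.obj Y) h
    simpa only [Category.assoc, Functor.Monoidal.μ_δ_assoc, Functor.Monoidal.μ_δ,
      MonoidalCategory.whiskerLeft_comp, comp_whiskerRight, Functor.Monoidal.whiskerLeft_ε_η_assoc,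
      Functor.Monoidal.whiskerRight_ε_η, Category.comp_id] using h2
  evaluation_coevaluation' := by
    have h := congrArg G.map (ExactPairing.evaluation_coevaluation X Y)
    simp only [Functor.map_comp, Functor.Monoidal.map_whiskerLeft, Functor.Monoidal.map_whiskerRight,
      Functor.Monoidal.map_associator, Functor.Monoidal.map_leftUnitor, Functor.Monoidal.map_rightUnitor_inv,
      Category.assoc, Functor.Monoidal.μ_δ_assoc] at h
    have h2 := congrArg (fun f => ε G ▷ G.obj X ≫ μ G (𝟙_ C) X ≫ f ≫ δ G X (𝟙_ C) ≫ G.obj X ◁ η G) h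
    simpa only [Category.assoc, Functor.Monoidal.μ_δ_assoc, Functor.Monoidal.μ_δ,
      MonoidalCategory.whiskerLeft_comp, comp_whiskerRight, Functor.Monoidal.whiskerRight_ε_η_assoc,
      Functor.Monoidal.whiskerLeft_ε_η, Category.comp_id] using h2

end

variable {A : Type u} [CommRing A] [DTen.HasLTen A] [DTen.HasLTen₃ A] [DTen.IsSymMonoidal A]

attribute [local instance] monoidalD kfQMonoidal

/-- perfect objects are dualizable -/
theorem exists_dual (K : Dual.D A) (hK : DRing.IsPerfect A K) :
    ∃ K' : Dual.D A, Nonempty (ExactPairing K K') := by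
  obtain ⟨E, a, b, hE, hf, ⟨e⟩⟩ := hK
  have hEk : DRing.IsKFlat A E := DRingKP.isKFlat_of_finiteProjective (b := b) (fun i hi => hE i (Or.inr hi)) hf
  have hFk : DRing.IsKFlat A (dualCx E) :=
    DRingKP.isKFlat_of_finiteProjective (b := -a)
      (fun i hi => vanishesOutside_dualCx E a b hE i (Or.inr hi)) (termwiseFiniteProjective_dualCx E hf)
  let X : (kf A).FullSubcategory := ⟨E, hEk⟩
  let Y : (kf A).FullSubcategory := ⟨dualCx E, hFk⟩
  letI : ExactPairing ((kf A).ι.obj X) ((kf A).ι.obj Y) := (preDual E a b hE hf).exactPairing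
  letI : ExactPairing X Y := ExactPairing.ofFullyFaithful (kf A).ι X Y
  letI : ExactPairing ((kfQ A).obj X) ((kfQ A).obj Y) := mapExactPairing (kfQ A) X Y
  exact ⟨(kfQ A).obj Y, ⟨@exactPairingCongrLeft _ _ _ K ((kfQ A).obj X) ((kfQ A).obj Y) this e.symm⟩⟩

/-- perfect objects are dualizable on both sides -/
theorem exists_dual_left (K : Dual.D A) (hK : DRing.IsPerfect A K) :
    ∃ K' : Dual.D A, Nonempty (ExactPairing K' K) := by
  obtain ⟨E, a, b, hE, hf, ⟨e⟩⟩ := hK
  have hEk : DRing.IsKFlat A E := DRingKP.isKFlat_of_finiteProjective (b := b) (fun i hi => hE i (Or.inr hi)) hf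
  have hFk : DRing.IsKFlat A (dualCx E) :=
    DRingKP.isKFlat_of_finiteProjective (b := -a)
      (fun i hi => vanishesOutside_dualCx E a b hE i (Or.inr hi)) (termwiseFiniteProjective_dualCx E hf)
  let X : (kf A).FullSubcategory := ⟨E, hEk⟩
  let Y : (kf A).FullSubcategory := ⟨dualCx E, hFk⟩
  letI := braidedCx (A := A)
  letI : ExactPairing E (dualCx E) := (preDual E a b hE hf).exactPairing
  letI : ExactPairing ((kf A).ι.obj Y) ((kf A).ι.obj X) := BraidedCategory.exactPairing_swap E (dualCx E)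
  letI : ExactPairing Y X := ExactPairing.ofFullyFaithful (kf A).ι Y X
  letI : ExactPairing ((kfQ A).obj Y) ((kfQ A).obj X) := mapExactPairing (kfQ A) Y X
  exact ⟨(kfQ A).obj Y, ⟨@exactPairingCongrRight _ _ _ ((kfQ A).obj Y) K ((kfQ A).obj X) this e.symm⟩⟩

variable [DTen.HasRHom A]

theorem isIso_evalHom (K L M : Dual.D A) (hK : DRing.IsPerfect A K) : IsIso (DTen.evalHom K L M) := by
  obtain ⟨K', ⟨h⟩⟩ := exists_dual_left K hK
  exact @isIso_fEvalHom _ _ _ _ (DTen.rhomAdj A) (fun X Y => DTen.braiding Y X)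
    (fun X _ _ f => (DTen.symm A).naturality (Prod.mkHom f (𝟙 X))) K' K L M h

theorem isIso_evalTen_of_source (K L M : Dual.D A) (hM : DRing.IsPerfect A M) :
    IsIso (DTen.evalTen K L M) := by
  obtain ⟨M', ⟨h⟩⟩ := exists_dual M hM
  exact @isIso_fEvalTen_right _ _ _ _ M (DTen.rhomAdj A M) M' h K L

theorem isIso_evalTen_of_left (K L M : Dual.D A) (hK : DRing.IsPerfect A K) :
    IsIso (DTen.evalTen K L M) := by
  obtain ⟨K', ⟨h⟩⟩ := exists_dual K hK
  exact @isIso_fEvalTen_left _ _ _ _ M (DTen.rhomAdj A M) K K' h L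

end Groth.Agent.DTenLib
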