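import Groth.Agent.DTenLib.Mix3
import Groth.Prelude.Def_DTen5

/-!
Base change for derived hom: `res RHom'(K ⊗^L R', M) ≅ RHom(K, res M)`.
-/

set_option autoImplicit false
set_option linter.style.haveILetI false
set_option backward.isDefEq.respectTransparency false
universe u

namespace Groth.Agent.DTenLib

open CategoryTheory Limits MonoidalCategory

attribute [local instance] HasDerivedCategory.standard

variable {R A : Type u} [CommRing R] [CommRing A] (φ : R →+* A)

lemma unit_resTen₀ (X Y : ModuleCat.{u} R) :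
    ((ModuleCat.extendRestrictScalarsAdj.{u, u, u} φ).unit.app X ⊗ₘ
        (ModuleCat.extendRestrictScalarsAdj.{u, u, u} φ).unit.app Y) ≫
          DTen.resTen₀app φ ((DTen.extM φ).obj X) ((DTen.extM φ).obj Y) =
      (ModuleCat.extendRestrictScalarsAdj.{u, u, u} φ).unit.app (X ⊗ Y) ≫
        (DTen.resM φ).map (Functor.OplaxMonoidal.δ (DTen.extM φ) X Y) :=
  ModuleCat.hom_ext (TensorProduct.ext' fun _ _ => rfl)

lemma unit_resTenCx (t k : DRing.Cx R) :
    (((DTen.unitCx φ).app t) ⊗ₘ ((DTen.unitCx φ).app k)) ≫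
        DTen.resTenCx φ ((DTen.extCx φ).obj t) ((DTen.extCx φ).obj k) =
      (DTen.unitCx φ).app (t ⊗ k) ≫ (DTen.resCx φ).map (DTen.extTenCxIso φ t k).hom := by
  change HomologicalComplex.mapBifunctorMap _ _ _ _ ≫ _ = _
  refine HomologicalComplex.hom_ext _ _ (fun n => HomologicalComplex.mapBifunctor.hom_ext (fun p q h => ?_))
  rw [HomologicalComplex.comp_f, HomologicalComplex.comp_f, HomologicalComplex.ι_mapBifunctorMap_assoc]
  dsimp only [Functor.comp_obj, Functor.id_obj]
  have h1 : HomologicalComplex.ιTensorObj t k p q n h ≫ ((DTen.unitCx φ).app (t ⊗ k)).f n =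
      (ModuleCat.extendRestrictScalarsAdj.{u, u, u} φ).unit.app (t.X p ⊗ k.X q) ≫
        (DTen.resM φ).map ((DTen.extM φ).map (HomologicalComplex.ιTensorObj t k p q n h)) :=
    (ModuleCat.extendRestrictScalarsAdj.{u, u, u} φ).unit.naturality (HomologicalComplex.ιTensorObj t k p q n h)
  have h2 := congrArg (DTen.resM φ).map (DTen.map_ι_extTenCxIso_hom φ t k p q n h)
  rw [Functor.map_comp, Functor.map_comp] at h2
  refine (congrArg (fun w => _ ≫ _ ≫ w)
    (DTen.ι_resTenCx φ ((DTen.extCx φ).obj t) ((DTen.extCx φ).obj k) p q n h)).trans ?_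
  refine Eq.trans ?_ (((congrArg (· ≫ _) h1).trans (Category.assoc _ _ _)).trans
    (congrArg (_ ≫ ·) h2)).symm |>.trans (Category.assoc _ _ _)
  have core : (((curriedTensor (ModuleCat.{u} R)).map (((DTen.unitCx φ).app t).f p)).app (k.X q) ≫
      ((curriedTensor (ModuleCat.{u} R)).obj (((DTen.resCx φ).obj ((DTen.extCx φ).obj t)).X p)).map
        (((DTen.unitCx φ).app k).f q)) ≫
      DTen.resTen₀app φ (((DTen.extCx φ).obj t).X p) (((DTen.extCx φ).obj k).X q) =
      (ModuleCat.extendRestrictScalarsAdj.{u, u, u} φ).unit.app (t.X p ⊗ k.X q) ≫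
        (DTen.resM φ).map (Functor.OplaxMonoidal.δ (DTen.extM φ) (t.X p) (k.X q)) :=
    ModuleCat.hom_ext (TensorProduct.ext' fun _ _ => rfl)
  refine (Category.assoc _ _ _).symm.trans ?_
  exact (Category.assoc _ _ _).symm.trans ((congrArg (· ≫ _) core).trans (Category.assoc _ _ _))

variable [DTen.HasLTen R] [DTen.HasLTen A] [DTen.HasLBase φ] [DTen.HasResTen φ] [DTen.ResLegIso φ]

/-- `(T ⊗^L K) ⊗^L A ⟶ (T ⊗^L A) ⊗^L (K ⊗^L A)` -/
noncomputable def baseTen (T K : Dual.D R) :
    (DTen.LBase φ).obj ((DTen.LTen₂ R).obj (T, K)) ⟶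
      (DTen.LTen₂ A).obj ((DTen.LBase φ).obj T, (DTen.LBase φ).obj K) :=
  ((DTen.baseAdj φ).homEquiv _ _).symm
    ((DTen.LTen₂ R).map (Prod.mkHom ((DTen.baseAdj φ).unit.app T) ((DTen.baseAdj φ).unit.app K)) ≫
      (DTen.resPF φ).app ((DTen.LBase φ).obj T, (DTen.LBase φ).obj K))

lemma baseTen_naturality {T T' K K' : Dual.D R} (f : T ⟶ T') (g : K ⟶ K') :
    (DTen.LBase φ).map ((DTen.LTen₂ R).map (Prod.mkHom f g)) ≫ baseTen φ T' K' =
      baseTen φ T K ≫
        (DTen.LTen₂ A).map (Prod.mkHom ((DTen.LBase φ).map f) ((DTen.LBase φ).map g)) := by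
  rw [baseTen, baseTen, ← Adjunction.homEquiv_naturality_left_symm, ← Adjunction.homEquiv_naturality_right_symm]
  congr 1
  have e1 := (DTen.baseAdj φ).unit.naturality f
  have e2 := (DTen.baseAdj φ).unit.naturality g
  have e3 := (DTen.resPF φ).naturality (Prod.mkHom ((DTen.LBase φ).map f) ((DTen.LBase φ).map g))
  dsimp at e1 e2 e3 ⊢
  rw [Category.assoc, ← e3, ← Category.assoc, ← Category.assoc, ← Functor.map_comp, ← Functor.map_comp]
  congr 2
  simp only [prod_comp, Prod.mkHom]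
  exact Prod.ext e1 e2

lemma baseTen_Q (t k : DRing.Cx R) :
    baseTen φ (DerivedCategory.Q.obj t) (DerivedCategory.Q.obj k) ≫
        (DTen.LTen₂ A).map (Prod.mkHom ((DTen.baseCmp φ).app t) ((DTen.baseCmp φ).app k)) ≫
        (DTen.ε A).app ((DTen.extCx φ).obj t, (DTen.extCx φ).obj k) =
      (DTen.LBase φ).map ((DTen.ε R).app (t, k)) ≫ (DTen.baseCmp φ).app (t ⊗ k) ≫
        DerivedCategory.Q.map (DTen.extTenCxIso φ t k).hom := by
  apply ((DTen.baseAdj φ).homEquiv _ _).injective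
  rw [baseTen, ← Adjunction.homEquiv_naturality_right_symm, Equiv.apply_symm_apply,
    Adjunction.homEquiv_unit]
  rw [← cancel_mono ((DTen.resFactors φ).hom.app _)]
  have e1 := (DTen.resPF φ).naturality (Prod.mkHom ((DTen.baseCmp φ).app t) ((DTen.baseCmp φ).app k))
  have e2 := DTen.resPF_fac φ ((DTen.extCx φ).obj t, (DTen.extCx φ).obj k)
  have e3 := (DTen.ε R).naturality (Prod.mkHom ((DTen.unitCx φ).app t) ((DTen.unitCx φ).app k))
  have e4 := (DTen.resFactors φ).hom.naturality (DTen.extTenCxIso φ t k).hom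
  have e5 := (DTen.baseAdj φ).unit.naturality ((DTen.ε R).app (t, k))
  dsimp [DTen.resβA, DTen.resβB] at e1 e2 e3 e4 e5 ⊢
  simp only [Functor.map_comp, Category.assoc]
  rw [← reassoc_of% e1, e2, ← reassoc_of% e5, e4]
  rw [← Functor.map_comp_assoc, ← Functor.map_comp_assoc, reassoc_of% DTen.baseCmp_fac φ (t ⊗ k)]
  have hp : ∀ s : DRing.Cx R, ((DTen.baseAdj φ).unit.app (DerivedCategory.Q.obj s) ≫
      (DRing.restrictD φ).map ((DTen.baseCmp φ).app s)) ≫ (DTen.resFactors φ).hom.app ((DTen.extCx φ).obj s) =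
      DerivedCategory.Q.map ((DTen.unitCx φ).app s) := fun s => by
    rw [DTen.baseCmp_fac]
    simp [DTen.baseγ]
  simp only [prod_comp, Prod.mkHom] at e3 ⊢
  rw [hp t, hp k, reassoc_of% e3, ← Functor.map_comp]
  simp only [DTen.baseγ, Category.assoc, Iso.inv_hom_id_app_assoc]
  rw [← Functor.map_comp, ← MonoidalCategory.tensorHom_def_assoc]
  exact congrArg (fun x => _ ≫ DerivedCategory.Q.map x) (unit_resTenCx φ t k)

theorem isIso_baseTen (T K : Dual.D R) : IsIso (baseTen φ T K) := by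
  obtain ⟨t, ht, ⟨eT⟩⟩ := exists_kFlat_rep T
  obtain ⟨k, hk, ⟨eK⟩⟩ := exists_kFlat_rep K
  have h : IsIso (baseTen φ (DerivedCategory.Q.obj t) (DerivedCategory.Q.obj k)) := by
    have := isIso_baseCmp φ ht
    have := isIso_baseCmp φ hk
    have := isIso_baseCmp φ (isKFlat_tensor ht hk)
    have := isIso_ε_right t hk
    have := isIso_ε_right ((DTen.extCx φ).obj t) (KFlat.isKFlat_extendScalars φ hk)
    have h1 : IsIso (Prod.mkHom ((DTen.baseCmp φ).app t) ((DTen.baseCmp φ).app k)) :=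
      (Iso.prod (asIso ((DTen.baseCmp φ).app t)) (asIso ((DTen.baseCmp φ).app k))).isIso_hom
    exact isIso_of_comp_eq (baseTen_Q φ t k)
      (IsIso.comp_isIso' (@Functor.map_isIso _ _ _ _ _ _ (DTen.LTen₂ A) _ h1) inferInstance)
      (IsIso.comp_isIso' inferInstance (IsIso.comp_isIso' inferInstance inferInstance))
  have h2 := baseTen_naturality φ eT.hom eK.hom
  have : IsIso (Prod.mkHom eT.hom eK.hom) := (Iso.prod eT eK).isIso_hom
  have : IsIso (Prod.mkHom ((DTen.LBase φ).map eT.hom) ((DTen.LBase φ).map eK.hom)) :=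
    (Iso.prod ((DTen.LBase φ).mapIso eT) ((DTen.LBase φ).mapIso eK)).isIso_hom
  have : IsIso ((DTen.LBase φ).map ((DTen.LTen₂ R).map (Prod.mkHom eT.hom eK.hom)) ≫ baseTen φ T K) := by
    rw [h2]
    exact IsIso.comp_isIso' h inferInstance
  exact IsIso.of_isIso_comp_left ((DTen.LBase φ).map ((DTen.LTen₂ R).map (Prod.mkHom eT.hom eK.hom))) _

variable [DTen.HasRHom R] [DTen.HasRHom A]

theorem isIso_rhomBC (K : Dual.D R) (M : Dual.D A) : IsIso (DTen.rhomBC φ K M) := by
  refine isIso_of_yoneda_map_bijective _ fun T => ?_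
  have := isIso_baseTen φ T K
  let E : (T ⟶ (DRing.restrictD φ).obj ((DTen.RHomR A ((DTen.LBase φ).obj K)).obj M)) ≃
      (T ⟶ (DTen.RHomR R K).obj ((DRing.restrictD φ).obj M)) :=
    (((DTen.baseAdj φ).homEquiv _ _).symm.trans
      (((DTen.rhomAdj A ((DTen.LBase φ).obj K)).homEquiv _ _).symm.trans
        ((Iso.homFromEquiv (asIso (baseTen φ T K)).symm).trans
          (((DTen.baseAdj φ).homEquiv _ _).trans ((DTen.rhomAdj R K).homEquiv _ _)))))
  have hE : (fun g : T ⟶ (DRing.restrictD φ).obj ((DTen.RHomR A ((DTen.LBase φ).obj K)).obj M) =>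
      g ≫ DTen.rhomBC φ K M) = E := by
    funext g
    apply ((DTen.rhomAdj R K).homEquiv _ _).symm.injective
    simp only [E, Equiv.trans_apply, Equiv.symm_apply_apply]
    rw [DTen.rhomBC, Adjunction.homEquiv_naturality_left_symm]
    erw [Equiv.symm_apply_apply, Equiv.symm_apply_apply]
    change _ = ((DTen.baseAdj φ).homEquiv _ _) (baseTen φ T K ≫
      ((DTen.rhomAdj A ((DTen.LBase φ).obj K)).homEquiv _ _).symm
        (((DTen.baseAdj φ).homEquiv _ _).symm g))
    rw [baseTen, ← Adjunction.homEquiv_naturality_right_symm, Equiv.apply_symm_apply,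
      Adjunction.homEquiv_counit]
    obtain ⟨g', rfl⟩ := ((DTen.baseAdj φ).homEquiv _ _).surjective g
    rw [Equiv.symm_apply_apply, Adjunction.homEquiv_unit]
    have e1 := (DTen.resPF φ).naturality (Prod.mkHom g' (𝟙 ((DTen.LBase φ).obj K)))
    dsimp [DTen.rhomBCCore] at e1 ⊢
    simp only [CategoryTheory.Functor.map_id, Functor.map_comp, Category.assoc] at e1 ⊢
    rw [← reassoc_of% e1, ← Functor.map_comp_assoc, ← Functor.map_comp_assoc]
    congr 2
    simp [Prod.mkHom, prod_comp]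
  rw [hE]
  exact E.bijective

end Groth.Agent.DTenLib
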