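import Groth.Agent.DTenLib.Base

/-!
`(E ⊗^L_R A) ⊗^L_A N ≅ E ⊗^L_R N`.
-/

set_option autoImplicit false
set_option linter.style.haveILetI false
universe u

namespace Groth.Agent.DTenLib

open CategoryTheory Limits MonoidalCategory

attribute [local instance] HasDerivedCategory.standard

variable {R A : Type u} [CommRing R] [CommRing A] (φ : R →+* A)

/-- both K-flat -/
def KFMix : ObjectProperty (DRing.Cx R × DRing.Cx A) :=
  fun X => DRing.IsKFlat R X.1 ∧ DRing.IsKFlat A X.2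

/-- resolutions of mixed pairs -/
noncomputable def leftResMix : KFlat.LeftRes (DTen.qisMix R A) (DTen.mix₂ φ) KFMix where
  ρ := res.prod res
  ψ :=
    { app := fun X => Prod.mkHom (resψ.app X.1) (resψ.app X.2)
      naturality := fun X Y f => Prod.ext (resψ.naturality f.1) (resψ.naturality f.2) }
  mem X := ⟨isKFlat_res X.1, isKFlat_res X.2⟩
  weq X := ⟨qis_resψ X.1, qis_resψ X.2⟩
  isIso_map {X Y} f hX hY hf := by
    have : QuasiIso f.1 := hf.1
    have : QuasiIso f.2 := hf.2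
    have := quasiIso_ext φ f.1 hX.1 hY.1
    have := DRingKP.quasiIso_whiskerRight (K := X.2) hX.2 ((DTen.extCx φ).map f.1)
    have := DRingKP.quasiIso_whiskerLeft f.2 hX.2 hY.2 ((DTen.extCx φ).obj Y.1)
    change IsIso (DerivedCategory.Q.map ((DTen.extCx φ).map f.1 ▷ X.2 ≫ (DTen.extCx φ).obj Y.1 ◁ f.2))
    infer_instance

theorem hasLTenMix : DTen.HasLTenMix φ := (leftResMix φ).hasLeftDerivedFunctor

theorem isIso_εMix [DTen.HasLTenMix φ] {K : DRing.Cx R} {N : DRing.Cx A} (hK : DRing.IsKFlat R K)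
    (hN : DRing.IsKFlat A N) : IsIso ((DTen.εMix φ).app (K, N)) :=
  (leftResMix φ).isIso_app (DTen.LTenMix φ) (DTen.εMix φ) (X := (K, N)) ⟨hK, hN⟩

theorem isIso_split_app [DTen.HasLTen A] [DTen.HasLBase φ] [DTen.HasLTenMix φ]
    (X : Dual.D R × Dual.D A) : IsIso ((DTen.split φ).app X) := by
  obtain ⟨K, hK, ⟨eK⟩⟩ := exists_kFlat_rep X.1
  obtain ⟨N, hN, ⟨eN⟩⟩ := exists_kFlat_rep X.2
  refine (NatTrans.isIso_app_iff_of_iso (DTen.split φ) (Iso.prod eK eN)).1 ?_
  refine isIso_of_comp_eq (DTen.split_fac φ (K, N)) (isIso_εMix φ hK hN) ?_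
  have := isIso_baseCmp φ hK
  have h : IsIso (Prod.mkHom ((DTen.baseCmp φ).app K) (𝟙 (DerivedCategory.Q.obj N))) :=
    (Iso.prod (asIso ((DTen.baseCmp φ).app K)) (Iso.refl _)).isIso_hom
  exact IsIso.comp_isIso' (@Functor.map_isIso _ _ _ _ _ _ (DTen.LTen₂ A) _ h)
    (isIso_ε_right ((DTen.extCx φ).obj K) hN)

end Groth.Agent.DTenLib
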