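import Groth.Agent.DTenLib.Basic
import Groth.Prelude.Def_DTen3

/-!
The structure maps of `⊗^L` are isomorphisms.
-/

set_option autoImplicit false
set_option linter.style.haveILetI false
universe u

namespace Groth.Agent.DTenLib

open CategoryTheory Limits MonoidalCategory

attribute [local instance] HasDerivedCategory.standard

variable {A : Type u} [CommRing A] {H : Type*} [Category* H]

lemma isIso_app_pair {F G : Dual.D A × Dual.D A ⥤ H} (τ : F ⟶ G)
    (h : ∀ K L : DRing.Cx A, DRing.IsKFlat A K → DRing.IsKFlat A L →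
      IsIso (τ.app (DerivedCategory.Q.obj K, DerivedCategory.Q.obj L))) (X : Dual.D A × Dual.D A) :
    IsIso (τ.app X) := by
  obtain ⟨K, hK, ⟨eK⟩⟩ := exists_kFlat_rep X.1
  obtain ⟨L, hL, ⟨eL⟩⟩ := exists_kFlat_rep X.2
  exact (NatTrans.isIso_app_iff_of_iso τ (Iso.prod eK eL)).1 (h K L hK hL)

lemma isIso_app_triple {F G : Dual.D A × (Dual.D A × Dual.D A) ⥤ H} (τ : F ⟶ G)
    (h : ∀ K L M : DRing.Cx A, DRing.IsKFlat A K → DRing.IsKFlat A L → DRing.IsKFlat A M →
      IsIso (τ.app (DerivedCategory.Q.obj K, (DerivedCategory.Q.obj L, DerivedCategory.Q.obj M))))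
    (X : Dual.D A × (Dual.D A × Dual.D A)) : IsIso (τ.app X) := by
  obtain ⟨K, hK, ⟨eK⟩⟩ := exists_kFlat_rep X.1
  obtain ⟨L, hL, ⟨eL⟩⟩ := exists_kFlat_rep X.2.1
  obtain ⟨M, hM, ⟨eM⟩⟩ := exists_kFlat_rep X.2.2
  exact (NatTrans.isIso_app_iff_of_iso τ (Iso.prod eK (Iso.prod eL eM))).1 (h K L M hK hL hM)

lemma isIso_of_comp_eq {X Y Z : H} {f : X ⟶ Y} {g : Y ⟶ Z} {h : X ⟶ Z} (e : f ≫ g = h)
    (hg : IsIso g) (hh : IsIso h) : IsIso f := by
  subst e
  exact IsIso.of_isIso_comp_right f g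

theorem isIso_symm_app [DTen.HasLTen A] (X : Dual.D A × Dual.D A) : IsIso ((DTen.symm A).app X) :=
  isIso_app_pair (DTen.symm A) (fun K L hK hL => by
    have := isIso_ε_right L hK
    exact isIso_of_comp_eq (DTen.symm_fac A K L) (isIso_ε_right K hL)
      (IsIso.comp_isIso' inferInstance inferInstance)) X

theorem isIso_assocR_app [DTen.HasLTen A] [DTen.HasLTen₃ A] (X : Dual.D A × (Dual.D A × Dual.D A)) :
    IsIso ((DTen.assocR A).app X) :=
  isIso_app_triple (DTen.assocR A) (fun K L M _ hL hM => by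
    refine isIso_of_comp_eq (DTen.assocR_fac A (K, (L, M))) (isIso_ε₃ K hL hM) ?_
    have := isIso_ε_right L hM
    have : IsIso (Prod.mkHom (𝟙 (DerivedCategory.Q.obj K)) ((DTen.ε A).app (L, M))) :=
      (Iso.prod (Iso.refl _) (asIso ((DTen.ε A).app (L, M)))).isIso_hom
    exact IsIso.comp_isIso' inferInstance (isIso_ε_right K (isKFlat_tensor hL hM))) X

theorem isIso_assocL_app [DTen.HasLTen A] [DTen.HasLTen₃ A] (X : Dual.D A × (Dual.D A × Dual.D A)) :
    IsIso ((DTen.assocL A).app X) :=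
  isIso_app_triple (DTen.assocL A) (fun K L M _ hL hM => by
    refine isIso_of_comp_eq (DTen.assocL_fac A (K, (L, M))) (isIso_ε₃ K hL hM) ?_
    have := isIso_ε_right K hL
    have : IsIso (Prod.mkHom ((DTen.ε A).app (K, L)) (𝟙 (DerivedCategory.Q.obj M))) :=
      (Iso.prod (asIso ((DTen.ε A).app (K, L))) (Iso.refl _)).isIso_hom
    exact IsIso.comp_isIso' (@Functor.map_isIso _ _ _ _ _ _ (DTen.LTen₂ A) _ this)
      (IsIso.comp_isIso' (isIso_ε_right (K ⊗ L) hM) inferInstance)) X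

end Groth.Agent.DTenLib
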